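import Groth.Prelude.Def_FilD
import Mathlib.CategoryTheory.Abelian.Refinements
import Mathlib.CategoryTheory.Limits.FunctorCategory.Basic
import Mathlib.CategoryTheory.Limits.Preserves.Finite
import Mathlib.Algebra.Homology.ShortComplex.PreservesHomology
import Mathlib.Algebra.Homology.ShortComplex.ExactFunctor
import Mathlib.Algebra.Homology.ShortComplex.Abelian

/-!
# Finite filtered objects: strictness by refinements, graded exactness
-/

set_option autoImplicit false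
set_option linter.style.haveILetI false

universe v u

open CategoryTheory CategoryTheory.Limits Opposite

namespace Groth.Agent.H16Derived.FilLib

variable {A : Type u} [Category.{v} A] [Abelian A]

/-- Transition maps. -/
def st (F : ℤᵒᵖ ⥤ A) {p q : ℤ} (h : p ≤ q) : F.obj (op q) ⟶ F.obj (op p) := F.map (homOfLE h).op

lemma map_eq_st (F : ℤᵒᵖ ⥤ A) {p q : ℤᵒᵖ} (f : q ⟶ p) : F.map f = st F (leOfHom f.unop) := rfl

@[simp] lemma st_refl (F : ℤᵒᵖ ⥤ A) (p : ℤ) : st F (le_refl p) = 𝟙 _ := F.map_id _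

@[reassoc (attr := simp)]
lemma st_comp (F : ℤᵒᵖ ⥤ A) {p q r : ℤ} (h : p ≤ q) (h' : q ≤ r) :
    st F h' ≫ st F h = st F (h.trans h') := by
  show F.map _ ≫ F.map _ = F.map _
  rw [← Functor.map_comp]
  exact congrArg F.map (Subsingleton.elim _ _)

@[reassoc]
lemma st_nat {F G : ℤᵒᵖ ⥤ A} (φ : F ⟶ G) {p q : ℤ} (h : p ≤ q) :
    st F h ≫ φ.app (op p) = φ.app (op q) ≫ st G h := φ.naturality _

instance mono_st (X : FilD.FilF A) {p q : ℤ} (h : p ≤ q) : Mono (st X.obj h) := X.property.1 _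

lemma exists_bound (X : FilD.FilF A) : ∃ b : ℤ, ∀ p : ℤ, b ≤ p → IsZero (X.obj.obj (op p)) := X.property.2.1

lemma exists_isIso_bound (X : FilD.FilF A) :
    ∃ a : ℤ, ∀ {p q : ℤ} (h : p ≤ q), q ≤ a → IsIso (st X.obj h) := by
  obtain ⟨a, ha⟩ := X.property.2.2
  exact ⟨a, fun {p q} h hq => ha _ hq⟩

/-- Families commuting with the steps are natural. -/
lemma commute_of_step {F G : ℤᵒᵖ ⥤ A} (g : ∀ p : ℤ, F.obj (op p) ⟶ G.obj (op p)) {b : ℤ}
    (hg : ∀ p, p < b → st F (Int.le_add_one (le_refl p)) ≫ g p =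
      g (p + 1) ≫ st G (Int.le_add_one (le_refl p))) {p q : ℤ} (h : p ≤ q) (hq : q ≤ b) :
    st F h ≫ g p = g q ≫ st G h := by
  obtain ⟨n, rfl⟩ : ∃ n : ℕ, q = p + n := ⟨(q - p).toNat, by omega⟩
  induction n with
  | zero =>
    have : ∀ (r : ℤ) (e : p ≤ r), r = p → st F e ≫ g p = g r ≫ st G e := by
      rintro r e rfl
      simp
    exact this _ h (by simp)
  | succ n ih =>
    have h' : p ≤ p + n := by omega
    have key : ∀ (r : ℤ) (e : p ≤ r), r = p + n + 1 → r ≤ b → st F e ≫ g p = g r ≫ st G e := by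
      rintro r e rfl hr
      rw [← st_comp F h' (Int.le_add_one (le_refl _)), ← st_comp G h' (Int.le_add_one (le_refl _)),
        Category.assoc, ih h' (by omega), reassoc_of% (hg (p + n) (by omega))]
    exact key _ h (by push_cast; omega) hq

/-- The projection to the graded piece. -/
noncomputable def gπ (F : ℤᵒᵖ ⥤ A) (p : ℤ) : F.obj (op p) ⟶ (FilD.gr A p).obj F :=
  cokernel.π (F.map (FilD.stepHom p))

instance epi_gπ (F : ℤᵒᵖ ⥤ A) (p : ℤ) : Epi (gπ F p) := inferInstanceAs (Epi (cokernel.π _))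

lemma st_step (F : ℤᵒᵖ ⥤ A) (p : ℤ) : F.map (FilD.stepHom p) = st F (Int.le_add_one (le_refl p)) := rfl

@[reassoc (attr := simp)]
lemma st_gπ (F : ℤᵒᵖ ⥤ A) (p : ℤ) : st F (Int.le_add_one (le_refl p)) ≫ gπ F p = 0 :=
  cokernel.condition _

lemma st_gπ' (F : ℤᵒᵖ ⥤ A) {p q : ℤ} (h : p < q) : st F h.le ≫ gπ F p = 0 := by
  rw [← st_comp F (Int.le_add_one (le_refl p)) (show p + 1 ≤ q by omega), Category.assoc, st_gπ, comp_zero]

@[reassoc]
lemma gπ_nat {F G : ℤᵒᵖ ⥤ A} (φ : F ⟶ G) (p : ℤ) :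
    gπ F p ≫ (FilD.gr A p).map φ = φ.app (op p) ≫ gπ G p := cokernel.π_desc _ _ _

lemma exists_of_gπ_eq_zero {F : ℤᵒᵖ ⥤ A} {p : ℤ} {T : A} (t : T ⟶ F.obj (op p)) (ht : t ≫ gπ F p = 0) :
    ∃ (T' : A) (π : T' ⟶ T) (_ : Epi π) (y : T' ⟶ F.obj (op (p + 1))),
      π ≫ t = y ≫ st F (Int.le_add_one (le_refl p)) :=
  (ShortComplex.exact_cokernel (F.map (FilD.stepHom p))).exact_up_to_refinements t ht

/-- Strictness by refinements. -/
def StrictUp {F G : ℤᵒᵖ ⥤ A} (φ : F ⟶ G) : Prop :=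
  ∀ (p q : ℤ) (h : p ≤ q) (T : A) (x : T ⟶ F.obj (op p)) (y : T ⟶ G.obj (op q)),
    x ≫ φ.app (op p) = y ≫ st G h →
      ∃ (T' : A) (π : T' ⟶ T) (_ : Epi π) (x' : T' ⟶ F.obj (op q)), π ≫ y = x' ≫ φ.app (op q)

theorem isStrict_iff {X Y : FilD.FilF A} (φ : X ⟶ Y) : FilD.IsStrict φ ↔ StrictUp φ.hom := by
  constructor
  · intro hφ p q h T x y hxy
    haveI : Mono (Y.obj.map (homOfLE h).op) := Y.property.1 _
    let I₁ := imageSubobject (φ.hom.app (op p))
    let I₂ := Subobject.mk (Y.obj.map (homOfLE h).op)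
    have h₁ : I₁.Factors (x ≫ φ.hom.app (op p)) := imageSubobject_factors_comp_self _ x
    have h₂ : I₂.Factors (x ≫ φ.hom.app (op p)) := (Subobject.mk_factors_iff _ _).2 ⟨y, hxy.symm⟩
    have h₃ : (I₁ ⊓ I₂).Factors (x ≫ φ.hom.app (op p)) := (Subobject.inf_factors _).2 ⟨h₁, h₂⟩
    have h₄ := hφ p q h
    rw [← h₄] at h₃
    obtain ⟨T', π, hπ, x', hx'⟩ := surjective_up_to_refinements_of_epi
      (factorThruImageSubobject (φ.hom.app (op q) ≫ Y.obj.map (homOfLE h).op)) (Subobject.factorThru _ _ h₃)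
    refine ⟨T', π, hπ, x', ?_⟩
    rw [← cancel_mono (Y.obj.map (homOfLE h).op)]
    have := congrArg (· ≫ (imageSubobject (φ.hom.app (op q) ≫ Y.obj.map (homOfLE h).op)).arrow) hx'
    simp only [Category.assoc, Subobject.factorThru_arrow, imageSubobject_arrow_comp] at this
    rw [Category.assoc, Category.assoc, show y ≫ Y.obj.map (homOfLE h).op = x ≫ φ.hom.app (op p) from hxy.symm]
    exact this
  · intro hφ p q h
    haveI : Mono (Y.obj.map (homOfLE h).op) := Y.property.1 _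
    let f := φ.hom.app (op q) ≫ Y.obj.map (homOfLE h).op
    apply le_antisymm
    · refine le_inf ?_ ?_
      · refine imageSubobject_le _ (X.obj.map (homOfLE h).op ≫ factorThruImageSubobject (φ.hom.app (op p))) ?_
        rw [Category.assoc, imageSubobject_arrow_comp, φ.hom.naturality]
      · exact imageSubobject_le_mk _ _ (φ.hom.app (op q)) rfl
    · let I₁ := imageSubobject (φ.hom.app (op p))
      let I₂ := Subobject.mk (Y.obj.map (homOfLE h).op)
      let t := (I₁ ⊓ I₂).arrow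
      obtain ⟨T₁, π₁, hπ₁, x, hx⟩ := surjective_up_to_refinements_of_epi
        (factorThruImageSubobject (φ.hom.app (op p))) (Subobject.ofLE (I₁ ⊓ I₂) I₁ inf_le_left)
      obtain ⟨y, hy⟩ := (Subobject.mk_factors_iff _ _).1
        (Subobject.factors_of_le t (inf_le_right : I₁ ⊓ I₂ ≤ I₂) (Subobject.factors_self _))
      have hxy : x ≫ φ.hom.app (op p) = (π₁ ≫ y) ≫ st Y.obj h := by
        have := congrArg (· ≫ I₁.arrow) hx
        simp only [Category.assoc, Subobject.ofLE_arrow, I₁, imageSubobject_arrow_comp] at this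
        rw [Category.assoc, show y ≫ st Y.obj h = t from hy]
        exact this.symm
      obtain ⟨T', π, hπ, x', hx'⟩ := hφ p q h T₁ x (π₁ ≫ y) hxy
      let e := π ≫ π₁
      have he : e ≫ t = x' ≫ f := by
        rw [← (show y ≫ Y.obj.map (homOfLE h).op = t from hy)]
        simp only [e, f, Category.assoc]
        rw [← reassoc_of% hx']
        rfl
      haveI : Epi e := epi_comp _ _
      have sq : CommSq (x' ≫ factorThruImageSubobject f) e (imageSubobject f).arrow t :=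
        ⟨by rw [Category.assoc, imageSubobject_arrow_comp, he]⟩
      haveI : StrongEpi e := strongEpi_of_epi e
      exact Subobject.le_of_comm sq.lift sq.fac_right

/-- Evaluation at `p`. -/
noncomputable abbrev lev (p : ℤ) : (ℤᵒᵖ ⥤ A) ⥤ A := (evaluation ℤᵒᵖ A).obj (op p)

lemma isFinFil_of_exact {K : ℤᵒᵖ ⥤ A} {X Y : FilD.FilF A} (ι : K ⟶ X.obj) (φ : X.obj ⟶ Y.obj)
    (hι : ∀ p, Mono (ι.app p)) (w : ι ≫ φ = 0)
    (hex : ∀ (p : ℤ) (T : A) (x : T ⟶ X.obj.obj (op p)), x ≫ φ.app (op p) = 0 →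
      ∃ k : T ⟶ K.obj (op p), k ≫ ι.app (op p) = x) :
    FilD.IsFinFil A K := by
  refine ⟨fun p q f => ?_, ?_, ?_⟩
  · haveI := hι q; haveI := hι p
    haveI : Mono (X.obj.map f) := X.property.1 f
    haveI : Mono (K.map f ≫ ι.app q) := by rw [ι.naturality f]; infer_instance
    exact mono_of_mono (K.map f) (ι.app q)
  · obtain ⟨b, hb⟩ := exists_bound X
    refine ⟨b, fun p hp => ?_⟩
    haveI := hι (op p)
    exact IsZero.of_mono (ι.app (op p)) (hb p hp)
  · obtain ⟨a, ha⟩ := X.property.2.2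
    refine ⟨a, fun p q f hp => ?_⟩
    haveI := ha f hp
    haveI := hι q; haveI := hι p
    haveI : Mono (Y.obj.map f) := Y.property.1 f
    let x := ι.app q ≫ inv (X.obj.map f)
    have hx : x ≫ φ.app p = 0 := by
      rw [← cancel_mono (Y.obj.map f), zero_comp, Category.assoc, ← φ.naturality, Category.assoc,
        IsIso.inv_hom_id_assoc, ← NatTrans.comp_app, w]
      rfl
    obtain ⟨k, hk⟩ := hex p.unop _ x hx
    have hk' : k ≫ ι.app p = x := hk
    refine ⟨k, ?_, ?_⟩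
    · rw [← cancel_mono (ι.app p), Category.assoc, hk', Category.id_comp]
      simp [x, ← Category.assoc, ι.naturality f]
    · rw [← cancel_mono (ι.app q), Category.assoc, ι.naturality, reassoc_of% hk', Category.id_comp]
      simp [x]

lemma exists_lift_kernel {X Y : ℤᵒᵖ ⥤ A} (φ : X ⟶ Y) (p : ℤ) (T : A) (x : T ⟶ X.obj (op p))
    (hx : x ≫ φ.app (op p) = 0) : ∃ k : T ⟶ (kernel φ).obj (op p), k ≫ (kernel.ι φ).app (op p) = x :=
  ⟨kernel.lift (φ.app (op p)) x hx ≫ (PreservesKernel.iso (lev p) φ).inv, by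
    rw [Category.assoc, show (PreservesKernel.iso (lev p) φ).inv ≫ (kernel.ι φ).app (op p) = kernel.ι (φ.app (op p))
      from PreservesKernel.iso_inv_ι (lev p) φ]
    exact kernel.lift_ι _ _ _⟩

instance mono_kernelι_app {X Y : ℤᵒᵖ ⥤ A} (φ : X ⟶ Y) (p : ℤᵒᵖ) : Mono ((kernel.ι φ).app p) :=
  inferInstanceAs (Mono (((evaluation ℤᵒᵖ A).obj p).map (kernel.ι φ)))

lemma isFinFil_kernel {X Y : FilD.FilF A} (φ : X ⟶ Y) : FilD.IsFinFil A (kernel φ.hom) :=
  isFinFil_of_exact (kernel.ι φ.hom) φ.hom (fun p => mono_kernelι_app φ.hom p) (kernel.condition _)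
    (exists_lift_kernel φ.hom)

lemma mono_app_of_mono {X Y : FilD.FilF A} (φ : X ⟶ Y) [Mono φ] (p : ℤᵒᵖ) : Mono (φ.hom.app p) := by
  let k : (⟨kernel φ.hom, isFinFil_kernel φ⟩ : FilD.FilF A) ⟶ X := ObjectProperty.homMk (kernel.ι φ.hom)
  have hk : k = 0 := (cancel_mono φ).1 ((InducedCategory.hom_ext (kernel.condition φ.hom)).trans zero_comp.symm)
  refine Preadditive.mono_of_cancel_zero _ fun {T} x hx => ?_
  obtain ⟨l, hl⟩ := exists_lift_kernel φ.hom p.unop T x hx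
  rw [← show l ≫ (kernel.ι φ.hom).app p = x from hl,
    show kernel.ι φ.hom = 0 from congrArg InducedCategory.Hom.hom hk]
  simp

/-- Exactness of the graded pieces gives exactness of the steps. -/
theorem exact_step_of_exact_gr {X Y Z : FilD.FilF A} (f : X.obj ⟶ Y.obj) (g : Y.obj ⟶ Z.obj) (w : f ≫ g = 0)
    (hS : ∀ p : ℤ, ((ShortComplex.mk f g w).map (FilD.gr A p)).Exact) (p : ℤ) :
    ((ShortComplex.mk f g w).map (lev p)).Exact := by
  obtain ⟨b, hb⟩ := exists_bound Y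
  suffices ∀ (n : ℕ) (p : ℤ), b ≤ p + n → ((ShortComplex.mk f g w).map (lev p)).Exact from
    this (b - p).toNat p (by omega)
  intro n
  induction n with
  | zero => exact fun p hp => ShortComplex.exact_of_isZero_X₂ _ (hb p (by omega))
  | succ n ih =>
    intro p hp
    rw [ShortComplex.exact_iff_exact_up_to_refinements]
    intro T (y : T ⟶ Y.obj.obj (op p)) (hy : y ≫ g.app (op p) = 0)
    have h₁ : (y ≫ gπ Y.obj p) ≫ (FilD.gr A p).map g = 0 := by
      rw [Category.assoc, gπ_nat, reassoc_of% hy, zero_comp]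
    obtain ⟨T₁, π₁, hπ₁, c, hc⟩ := (hS p).exact_up_to_refinements _ h₁
    obtain ⟨T₂, π₂, hπ₂, x, hx⟩ := surjective_up_to_refinements_of_epi (gπ X.obj p) c
    have hx' : π₂ ≫ π₁ ≫ y ≫ gπ Y.obj p = x ≫ f.app (op p) ≫ gπ Y.obj p := by
      rw [← gπ_nat, ← reassoc_of% hx]
      exact congrArg (π₂ ≫ ·) hc
    obtain ⟨T₃, π₃, hπ₃, y', hy'⟩ := exists_of_gπ_eq_zero (π₂ ≫ π₁ ≫ y - x ≫ f.app (op p)) (by
      simp [Preadditive.sub_comp, Category.assoc, hx'])
    have hg : y' ≫ g.app (op (p + 1)) = 0 := by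
      rw [← cancel_mono (st Z.obj (Int.le_add_one (le_refl p))), zero_comp, Category.assoc, ← st_nat,
        ← reassoc_of% hy', Preadditive.sub_comp, Category.assoc, Category.assoc, Category.assoc, hy,
        ← NatTrans.comp_app, w]
      simp
    obtain ⟨T₄, π₄, hπ₄, (x' : T₄ ⟶ X.obj.obj (op (p + 1))), hx''⟩ := (ih (p + 1) (by omega)).exact_up_to_refinements y' hg
    have hx''' : π₄ ≫ y' = x' ≫ f.app (op (p + 1)) := hx''
    refine ⟨T₄, π₄ ≫ π₃ ≫ π₂ ≫ π₁, epi_comp' inferInstance (epi_comp' inferInstance (epi_comp' inferInstance hπ₁)),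
      π₄ ≫ π₃ ≫ x + x' ≫ st X.obj (Int.le_add_one (le_refl p)), ?_⟩
    show @Eq (T₄ ⟶ Y.obj.obj (op p)) ((π₄ ≫ π₃ ≫ π₂ ≫ π₁) ≫ y)
      ((π₄ ≫ π₃ ≫ x + x' ≫ st X.obj (Int.le_add_one (le_refl p))) ≫ f.app (op p))
    rw [Preadditive.add_comp, Category.assoc x', st_nat, ← reassoc_of% hx''', ← hy']
    simp [Preadditive.comp_sub, Category.assoc]

/-- Exactness of the graded pieces gives strictness on both sides. -/
theorem strictUp_of_exact_gr {X Y Z : FilD.FilF A} (f : X.obj ⟶ Y.obj) (g : Y.obj ⟶ Z.obj) (w : f ≫ g = 0)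
    (hS : ∀ p : ℤ, ((ShortComplex.mk f g w).map (FilD.gr A p)).Exact) : StrictUp f ∧ StrictUp g := by
  refine ⟨fun p q h T x y hxy => ?_, fun p q h => ?_⟩
  · have hy : y ≫ g.app (op q) = 0 := by
      rw [← cancel_mono (st Z.obj h), zero_comp, Category.assoc, ← st_nat, ← reassoc_of% hxy,
        ← NatTrans.comp_app, w]
      simp
    exact (exact_step_of_exact_gr f g w hS q).exact_up_to_refinements y hy
  · obtain ⟨n, hn⟩ : ∃ n : ℕ, q = p + n := ⟨(q - p).toNat, by omega⟩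
    induction n generalizing p with
    | zero =>
      obtain rfl : q = p := by simpa using hn
      intro T x y hxy
      exact ⟨T, 𝟙 T, inferInstance, x, by simpa using hxy.symm⟩
    | succ n ih =>
      intro T x y hxy
      have hpq : p + 1 ≤ q := by omega
      have hz : (x ≫ gπ Y.obj p) ≫ (FilD.gr A p).map g = 0 := by
        rw [Category.assoc, gπ_nat, reassoc_of% hxy, ← st_comp Z.obj (Int.le_add_one (le_refl p)) hpq,
          Category.assoc, st_gπ, comp_zero, comp_zero]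
      obtain ⟨T₁, π₁, hπ₁, c, hc⟩ := (hS p).exact_up_to_refinements _ hz
      obtain ⟨T₂, π₂, hπ₂, w₁, hw₁⟩ := surjective_up_to_refinements_of_epi (gπ X.obj p) c
      have hw₂ : π₂ ≫ π₁ ≫ x ≫ gπ Y.obj p = w₁ ≫ f.app (op p) ≫ gπ Y.obj p := by
        rw [← gπ_nat, ← reassoc_of% hw₁]
        exact congrArg (π₂ ≫ ·) hc
      obtain ⟨T₃, π₃, hπ₃, x₁, hx₁⟩ := exists_of_gπ_eq_zero (π₂ ≫ π₁ ≫ x - w₁ ≫ f.app (op p)) (by
        simp [Preadditive.sub_comp, Category.assoc, hw₂])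
      have hx₂ : x₁ ≫ g.app (op (p + 1)) = (π₃ ≫ π₂ ≫ π₁ ≫ y) ≫ st Z.obj hpq := by
        rw [← cancel_mono (st Z.obj (Int.le_add_one (le_refl p))), Category.assoc, ← st_nat, ← reassoc_of% hx₁,
          Preadditive.sub_comp, Category.assoc, Category.assoc, Category.assoc, hxy, ← NatTrans.comp_app, w]
        simp
      obtain ⟨T₄, π₄, hπ₄, x', hx'⟩ := ih (p + 1) hpq (by omega) T₃ x₁ _ hx₂
      exact ⟨T₄, π₄ ≫ π₃ ≫ π₂ ≫ π₁, epi_comp' hπ₄ (epi_comp' inferInstance (epi_comp' inferInstance hπ₁)),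
        x', by simpa [Category.assoc] using hx'⟩

/-- A strict map has exact graded pieces at the source. -/
theorem exact_gr_of_strictUp {X Y : FilD.FilF A} (φ : X ⟶ Y) (hφ : StrictUp φ.hom) (p : ℤ) :
    ((ShortComplex.mk (kernel.ι φ.hom) φ.hom (kernel.condition φ.hom)).map (FilD.gr A p)).Exact := by
  rw [ShortComplex.exact_iff_exact_up_to_refinements]
  intro T (c : T ⟶ (FilD.gr A p).obj X.obj) (hc : c ≫ (FilD.gr A p).map φ.hom = 0)
  obtain ⟨T₁, π₁, hπ₁, x, hx⟩ := surjective_up_to_refinements_of_epi (gπ X.obj p) c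
  have hx₁ : (x ≫ φ.hom.app (op p)) ≫ gπ Y.obj p = 0 := by
    rw [Category.assoc, ← gπ_nat, ← reassoc_of% hx, hc, comp_zero]
  obtain ⟨T₂, π₂, hπ₂, y, hy⟩ := exists_of_gπ_eq_zero _ hx₁
  obtain ⟨T₃, π₃, hπ₃, x', hx'⟩ := hφ p (p + 1) _ T₂ (π₂ ≫ x) y ((Category.assoc _ _ _).trans hy)
  obtain ⟨k, hk⟩ := exists_lift_kernel φ.hom p T₃ (π₃ ≫ π₂ ≫ x - x' ≫ st X.obj (Int.le_add_one (le_refl p))) (by
    rw [Preadditive.sub_comp, Category.assoc, Category.assoc, Category.assoc, hy, st_nat, reassoc_of% hx', sub_self])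
  refine ⟨T₃, π₃ ≫ π₂ ≫ π₁, epi_comp' hπ₃ (epi_comp' inferInstance hπ₁), k ≫ gπ _ p, ?_⟩
  show (π₃ ≫ π₂ ≫ π₁) ≫ c = (k ≫ gπ _ p) ≫ (FilD.gr A p).map (kernel.ι φ.hom)
  rw [Category.assoc k, gπ_nat, reassoc_of% hk, Preadditive.sub_comp, Category.assoc, Category.assoc, hx]
  simp

theorem isStrict_iff_exact_gr {X Y : FilD.FilF A} (φ : X ⟶ Y) : FilD.IsStrict φ ↔
    ∀ p : ℤ, ((ShortComplex.mk (kernel.ι φ.hom) φ.hom (kernel.condition φ.hom)).map (FilD.gr A p)).Exact := by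
  rw [isStrict_iff]
  exact ⟨exact_gr_of_strictUp φ, fun h =>
    (strictUp_of_exact_gr (X := ⟨_, isFinFil_kernel φ⟩) (Y := X) (Z := Y) (kernel.ι φ.hom) φ.hom (kernel.condition _) h).2⟩

end Groth.Agent.H16Derived.FilLib
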