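import Groth.Agent.H16Derived.FilD.Basic
import Mathlib.CategoryTheory.Preadditive.Injective.Basic
import Mathlib.Data.Fintype.Order

/-!
# Filtered injective objects: extension along strict monomorphisms, enough of them
-/

set_option autoImplicit false
set_option linter.style.haveILetI false

universe v u

open CategoryTheory CategoryTheory.Limits Opposite

namespace Groth.Agent.H16Derived.FilLib

variable {A : Type u} [Category.{v} A] [Abelian A]

theorem injective_level (I : FilD.FilF A) (hI : FilD.IsFilteredInjective I) (p : ℤ) :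
    Injective (I.obj.obj (op p)) := by
  obtain ⟨b, hb⟩ := exists_bound I
  suffices ∀ (n : ℕ) (p : ℤ), b ≤ p + n → Injective (I.obj.obj (op p)) from this (b - p).toNat p (by omega)
  intro n
  induction n with
  | zero => exact fun p hp => (hb p (by omega)).injective
  | succ n ih =>
    intro p hp
    haveI : Injective (I.obj.obj (op (p + 1))) := ih (p + 1) (by omega)
    haveI : Injective ((FilD.gr A p).obj I.obj) := hI p
    let S := ShortComplex.mk (st I.obj (Int.le_add_one (le_refl p))) (gπ I.obj p) (st_gπ _ _)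
    have hS : S.ShortExact :=
      { exact := ShortComplex.exact_cokernel _
        mono_f := mono_st I _
        epi_g := epi_gπ _ _ }
    haveI : Injective S.X₁ := inferInstanceAs (Injective (I.obj.obj (op (p + 1))))
    haveI : Injective S.X₃ := inferInstanceAs (Injective ((FilD.gr A p).obj I.obj))
    exact Injective.of_iso hS.splittingOfInjective.isoBinaryBiproduct.symm inferInstance

lemma exists_extend_step {X Y I : FilD.FilF A} (u : X ⟶ Y)
    (hu : StrictUp u.hom) (hI : FilD.IsFilteredInjective I) (f : X ⟶ I)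
    (hker : ∀ (p : ℤ) (T : A) (x : T ⟶ X.obj.obj (op p)), x ≫ u.hom.app (op p) = 0 → x ≫ f.hom.app (op p) = 0)
    (p : ℤ)
    (g₁ : Y.obj.obj (op (p + 1)) ⟶ I.obj.obj (op (p + 1))) (hg₁ : u.hom.app _ ≫ g₁ = f.hom.app _) :
    ∃ g₀ : Y.obj.obj (op p) ⟶ I.obj.obj (op p), u.hom.app _ ≫ g₀ = f.hom.app _ ∧
      st Y.obj (Int.le_add_one (le_refl p)) ≫ g₀ = g₁ ≫ st I.obj (Int.le_add_one (le_refl p)) := by
  haveI := injective_level I hI p
  let m := biprod.desc (u.hom.app (op p)) (st Y.obj (Int.le_add_one (le_refl p)))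
  let k := biprod.desc (f.hom.app (op p)) (g₁ ≫ st I.obj (Int.le_add_one (le_refl p)))
  have hm' : m = biprod.fst ≫ u.hom.app (op p) + biprod.snd ≫ st Y.obj (Int.le_add_one (le_refl p)) := biprod.desc_eq
  have hk' : k = biprod.fst ≫ f.hom.app (op p) + biprod.snd ≫ g₁ ≫ st I.obj (Int.le_add_one (le_refl p)) :=
    biprod.desc_eq
  have hk : kernel.ι m ≫ k = 0 := by
    have h : kernel.ι m ≫ (biprod.fst ≫ u.hom.app (op p) + biprod.snd ≫ st Y.obj (Int.le_add_one (le_refl p))) = 0 :=
      (congrArg (kernel.ι m ≫ ·) hm').symm.trans (kernel.condition m)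
    rw [Preadditive.comp_add, add_eq_zero_iff_eq_neg, ← Preadditive.neg_comp] at h
    obtain ⟨T', π, hπ, x', hx'⟩ := hu p (p + 1) (Int.le_add_one (le_refl p)) _
      (kernel.ι m ≫ biprod.fst) (-(kernel.ι m ≫ biprod.snd))
      (by simp [Category.assoc, h])
    have hx : π ≫ (kernel.ι m ≫ biprod.fst) ≫ f.hom.app (op p) =
        (x' ≫ f.hom.app (op (p + 1))) ≫ st I.obj (Int.le_add_one (le_refl p)) := by
      rw [Category.assoc x', ← st_nat, ← sub_eq_zero, ← Category.assoc π, ← Category.assoc x',
        ← Preadditive.sub_comp]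
      refine hker p _ _ ?_
      rw [Preadditive.sub_comp, Category.assoc x', st_nat, ← reassoc_of% hx', Category.assoc, Category.assoc, h]
      simp
    rw [← hg₁, ← reassoc_of% hx'] at hx
    simp only [Category.assoc, Preadditive.neg_comp, Preadditive.comp_neg] at hx
    rw [← cancel_epi π, comp_zero, hk', Preadditive.comp_add, Preadditive.comp_add, hx]
    simp

  let F := Injective.factorThru (cokernel.desc _ k hk) (Abelian.factorThruCoimage m)
  have hF : m ≫ F = k := by
    have e := congrArg (cokernel.π (kernel.ι m) ≫ ·)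
      (Injective.comp_factorThru (cokernel.desc _ k hk) (Abelian.factorThruCoimage m))
    refine Eq.trans ?_ (e.trans (cokernel.π_desc _ _ _))
    exact Eq.trans (congrArg (· ≫ F) (cokernel.π_desc (kernel.ι m) m (kernel.condition m)).symm) (Category.assoc _ _ _)
  refine ⟨F, ?_, ?_⟩
  · have := congrArg (biprod.inl ≫ ·) hF
    simpa only [m, k, biprod.inl_desc, biprod.inl_desc_assoc] using this
  · have := congrArg (biprod.inr ≫ ·) hF
    simpa only [m, k, biprod.inr_desc, biprod.inr_desc_assoc] using this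

lemma exists_extend' {X Y I : FilD.FilF A} (u : X ⟶ Y) (hu : StrictUp u.hom)
    (hI : FilD.IsFilteredInjective I) (f : X ⟶ I)
    (hker : ∀ (p : ℤ) (T : A) (x : T ⟶ X.obj.obj (op p)), x ≫ u.hom.app (op p) = 0 → x ≫ f.hom.app (op p) = 0) :
    ∃ g : Y ⟶ I, u ≫ g = f := by
  obtain ⟨b, hb⟩ := exists_bound Y
  let G := ∀ p : ℤ, Y.obj.obj (op p) ⟶ I.obj.obj (op p)
  let P : ℕ → G → Prop := fun n g => (∀ p, b - n ≤ p → u.hom.app _ ≫ g p = f.hom.app _) ∧
    (∀ p, b - n ≤ p → st Y.obj (Int.le_add_one (le_refl p)) ≫ g p = g (p + 1) ≫ st I.obj (Int.le_add_one (le_refl p)))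
  have h0 : P 0 (fun _ => 0) := by
    refine ⟨fun p hp => ?_, fun p hp => by simp⟩
    rw [comp_zero]
    simpa using (hker p _ (𝟙 _) ((hb p (by omega)).eq_of_tgt _ _)).symm
  have hstep : ∀ (n : ℕ) (g : {g : G // P n g}), ∃ g' : {g : G // P (n + 1) g},
      ∀ p, b - n ≤ p → g'.1 p = g.1 p := by
    rintro n ⟨g, hg₁, hg₂⟩
    obtain ⟨g₀, h₁, h₂⟩ := exists_extend_step u hu hI f hker (b - n - 1) (g _) (hg₁ _ (by omega))
    refine ⟨⟨Function.update g (b - n - 1) g₀, fun p hp => ?_, fun p hp => ?_⟩, fun p hp => ?_⟩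
    · by_cases e : p = b - n - 1
      · subst e; simpa using h₁
      · rw [Function.update_of_ne e]; exact hg₁ p (by omega)
    · rw [Function.update_of_ne (show p + 1 ≠ b - n - 1 by omega)]
      by_cases e : p = b - n - 1
      · subst e; simpa using h₂
      · rw [Function.update_of_ne e]; exact hg₂ p (by omega)
    · exact Function.update_of_ne (by omega) _ _
  choose next hnext using hstep
  let seq : ∀ n, {g : G // P n g} := fun n => Nat.rec ⟨_, h0⟩ (fun n g => next n g) n
  have hseq : ∀ (n m : ℕ) (p : ℤ), n ≤ m → b - n ≤ p → (seq m).1 p = (seq n).1 p := by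
    intro n m p h hp
    induction m, h using Nat.le_induction with
    | base => rfl
    | succ m hm ih =>
      rw [← ih]
      exact hnext m (seq m) p (by omega)
  let g : G := fun p => (seq (b - p).toNat).1 p
  have hg : ∀ p, st Y.obj (Int.le_add_one (le_refl p)) ≫ g p = g (p + 1) ≫ st I.obj (Int.le_add_one (le_refl p)) := by
    intro p
    have := (seq (b - p).toNat).2.2 p (by omega)
    rwa [hseq (b - (p + 1)).toNat (b - p).toNat (p + 1) (by omega) (by omega)] at this
  refine ⟨ObjectProperty.homMk { app := fun p => g p.unop, naturality := fun q p h => ?_ }, ?_⟩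
  · exact commute_of_step g (b := q.unop) (fun r _ => hg r) (leOfHom h.unop) le_rfl
  · apply InducedCategory.hom_ext
    ext p
    exact (seq (b - p.unop).toNat).2.1 p.unop (by omega)

lemma exists_extend {X Y I : FilD.FilF A} (u : X ⟶ Y) [Mono u] (hu : StrictUp u.hom)
    (hI : FilD.IsFilteredInjective I) (f : X ⟶ I) : ∃ g : Y ⟶ I, u ≫ g = f :=
  exists_extend' u hu hI f fun p T x hx => by
    haveI := mono_app_of_mono u (op p)
    rw [(cancel_mono (u.hom.app (op p))).1 (hx.trans zero_comp.symm), zero_comp]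

section Enough

variable {ι : Type} [Finite ι] (q : ι → ℤ) (J : ι → A)

/-- Level `p` of the finite filtered object with graded piece `J i` in degree `q i`. -/
noncomputable def prodLev (p : ℤ) : A := ∏ᶜ fun i : {i // p ≤ q i} => J i.1

/-- Projection, zero off the support. -/
noncomputable def prodProj (p : ℤ) (i : ι) : prodLev q J p ⟶ J i :=
  if h : p ≤ q i then Pi.π (fun i : {i // p ≤ q i} => J i.1) ⟨i, h⟩ else 0

variable {q J} in
lemma prodLev_ext {T : A} {p : ℤ} {f g : T ⟶ prodLev q J p}
    (h : ∀ i, p ≤ q i → f ≫ prodProj q J p i = g ≫ prodProj q J p i) : f = g :=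
  Pi.hom_ext _ _ fun i => by
    have := h i.1 i.2
    rw [prodProj, dif_pos i.2] at this
    exact this

/-- Map to a level. -/
noncomputable def prodLift {T : A} (p : ℤ) (f : ∀ i, T ⟶ J i) : T ⟶ prodLev q J p := Pi.lift fun i => f i.1

@[reassoc]
lemma prodLift_proj {T : A} (p : ℤ) (f : ∀ i, T ⟶ J i) {i : ι} (h : p ≤ q i) :
    prodLift q J p f ≫ prodProj q J p i = f i := by
  rw [prodProj, dif_pos h]
  exact Pi.lift_π _ _

/-- The filtered product. -/
noncomputable def prodFun : ℤᵒᵖ ⥤ A where
  obj p := prodLev q J p.unop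
  map {p p'} _ := prodLift q J p'.unop (prodProj q J p.unop)
  map_id p := prodLev_ext fun i hi => by rw [prodLift_proj _ _ _ _ hi, Category.id_comp]
  map_comp {p p' p''} h h' := prodLev_ext fun i hi => by
    rw [Category.assoc, prodLift_proj _ _ _ _ hi, prodLift_proj _ _ _ _ hi]
    by_cases hc : p'.unop ≤ q i
    · rw [prodLift_proj _ _ _ _ hc]
    · have : ¬ p.unop ≤ q i := fun hh => hc ((leOfHom h.unop).trans hh)
      simp [prodProj, hc, this]

lemma retraction_prodFun {p p' : ℤ} (h : p ≤ p') :
    st (prodFun q J) h ≫ prodLift q J p' (prodProj q J p) = 𝟙 (prodLev q J p') :=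
  prodLev_ext fun i hi => by
    change (prodLift q J p (prodProj q J p') ≫ prodLift q J p' (prodProj q J p)) ≫ prodProj q J p' i =
      𝟙 (prodLev q J p') ≫ prodProj q J p' i
    rw [Category.assoc, prodLift_proj _ _ _ _ hi, prodLift_proj _ _ _ _ (h.trans hi), Category.id_comp]

/-- The split monomorphism structure of a step. -/
noncomputable def splitMonoSt {p p' : ℤ} (h : p ≤ p') : SplitMono (st (prodFun q J) h) :=
  ⟨prodLift q J p' (prodProj q J p), retraction_prodFun q J h⟩

lemma isFinFil_prodFun : FilD.IsFinFil A (prodFun q J) := by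
  obtain ⟨b, hb⟩ := Finite.exists_le q
  obtain ⟨a, ha⟩ := Finite.exists_ge q
  refine ⟨fun p p' h => ?_, ⟨b + 1, fun p hp => ?_⟩, ⟨a, fun p p' h hp => ?_⟩⟩
  · rw [map_eq_st]
    haveI := IsSplitMono.mk' (splitMonoSt q J (leOfHom h.unop))
    infer_instance
  · refine (IsZero.iff_id_eq_zero _).2 (prodLev_ext fun i (hi : p ≤ q i) => ?_)
    exact absurd (hb i) (by omega)
  · rw [map_eq_st]
    refine ⟨_, retraction_prodFun q J (leOfHom h.unop), prodLev_ext fun i hi => ?_⟩
    have hi' : p.unop ≤ q i := hp.trans (ha i)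
    change (prodLift q J p.unop (prodProj q J p'.unop) ≫ prodLift q J p'.unop (prodProj q J p.unop)) ≫
        prodProj q J p'.unop i = 𝟙 (prodLev q J p'.unop) ≫ prodProj q J p'.unop i
    rw [Category.assoc, prodLift_proj _ _ _ _ hi, prodLift_proj _ _ _ _ hi', Category.id_comp]

/-- The filtered product as a finite filtered object. -/
noncomputable def prodFil : FilD.FilF A := ⟨prodFun q J, isFinFil_prodFun q J⟩

lemma isFilteredInjective_prodFil [∀ i, Injective (J i)] : FilD.IsFilteredInjective (prodFil q J) := by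
  intro p
  let h : p ≤ p + 1 := Int.le_add_one (le_refl p)
  let S := ShortComplex.mk (st (prodFun q J) h) (gπ (prodFun q J) p) (st_gπ _ _)
  haveI : Epi S.g := epi_gπ _ _
  let sp := ShortComplex.Splitting.ofExactOfRetraction S (ShortComplex.exact_cokernel _) _
    (retraction_prodFun q J h) inferInstance
  haveI : Injective ((prodFun q J).obj (op p)) := inferInstanceAs (Injective (∏ᶜ fun i : {i // p ≤ q i} => J i.1))
  exact (⟨sp.s, gπ _ p, sp.s_g⟩ : Retract ((FilD.gr A p).obj (prodFun q J)) ((prodFun q J).obj (op p))).injective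

end Enough

theorem exists_strictMono [EnoughInjectives A] (X : FilD.FilF A) :
    ∃ (I : FilD.FilF A) (u : X ⟶ I), FilD.IsFilteredInjective I ∧ Mono u ∧ StrictUp u.hom := by
  obtain ⟨b, hb⟩ := exists_bound X
  obtain ⟨a₀, ha₀⟩ := exists_isIso_bound X
  let a := min a₀ b
  have ha : ∀ {p q : ℤ} (h : p ≤ q), q ≤ a → IsIso (st X.obj h) := fun h hq => ha₀ h (hq.trans (min_le_left _ _))
  have hab : a ≤ b := min_le_right _ _
  let q : Fin (b - a).toNat → ℤ := fun i => a + i
  have hq : ∀ i, a ≤ q i := fun i => by simp [q]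
  let J := fun i => Injective.under ((FilD.gr A (q i)).obj X.obj)
  let ψ := fun i => Injective.factorThru (gπ X.obj (q i) ≫ Injective.ι _) (st X.obj (hq i))
  haveI : ∀ p, IsIso (st X.obj (min_le_right p a)) := fun p => ha _ le_rfl
  let w : ∀ p, X.obj.obj (op p) ⟶ X.obj.obj (op a) := fun p =>
    st X.obj (min_le_left p a) ≫ inv (st X.obj (min_le_right p a))
  have hw : ∀ {p p' : ℤ} (h : p ≤ p'), st X.obj h ≫ w p = w p' := by
    intro p p' h
    have e : inv (st X.obj (min_le_right p' a)) =
        st X.obj (min_le_min_right a h) ≫ inv (st X.obj (min_le_right p a)) := by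
      rw [IsIso.eq_comp_inv, IsIso.inv_comp_eq, st_comp]
    simp only [w, e, st_comp_assoc]
  have hwa : ∀ p (h : a ≤ p), w p = st X.obj h := fun p h => by
    simp only [w]
    rw [IsIso.comp_inv_eq, st_comp]
  let U : ∀ p, X.obj.obj (op p) ⟶ prodLev q J p := fun p => prodLift q J p fun i => w p ≫ ψ i
  have hU : ∀ {p p' : ℤ} (h : p ≤ p'), st X.obj h ≫ U p = U p' ≫ prodLift q J p (prodProj q J p') := by
    intro p p' h
    refine prodLev_ext fun i hi => ?_
    simp only [U, Category.assoc, prodLift_proj _ _ _ _ hi]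
    rw [← Category.assoc, hw]
    by_cases hc : p' ≤ q i
    · rw [prodLift_proj _ _ _ _ hc]
    · rw [prodProj, dif_neg hc, comp_zero, ← hw (show q i ≤ p' by omega), Category.assoc, hwa _ (hq i)]
      simp [ψ, reassoc_of% (st_gπ' X.obj (show q i < p' by omega))]
  let u : X.obj ⟶ prodFun q J := { app := fun p => U p.unop, naturality := fun p p' h => hU (leOfHom h.unop) }
  -- a section of level `p` whose image comes from above is itself from above
  have key : ∀ (p : ℤ) (T : A) (x : T ⟶ X.obj.obj (op p)) (y : T ⟶ prodLev q J (p + 1)),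
      x ≫ u.app (op p) = y ≫ st (prodFun q J) (Int.le_add_one (le_refl p)) → x ≫ gπ X.obj p = 0 := by
    intro p T x y hxy
    by_cases hpb : b ≤ p
    · exact (hb p hpb).eq_of_tgt x 0 ▸ zero_comp
    by_cases hpa : p < a
    · haveI := ha (Int.le_add_one (le_refl p)) (by omega)
      have : gπ X.obj p = 0 := (cancel_epi (st X.obj (Int.le_add_one (le_refl p)))).1 (by simp)
      simp [this]
    obtain ⟨i, hi⟩ : ∃ i, q i = p := ⟨⟨(p - a).toNat, by omega⟩, by simp only [q]; omega⟩
    subst hi
    have h := congrArg (· ≫ prodProj q J (q i) i) hxy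
    change (x ≫ prodLift q J (q i) fun i' => w (q i) ≫ ψ i') ≫ prodProj q J (q i) i =
      (y ≫ prodLift q J (q i) (prodProj q J (q i + 1))) ≫ prodProj q J (q i) i at h
    rw [Category.assoc, Category.assoc, prodLift_proj _ _ _ _ le_rfl, prodLift_proj _ _ _ _ le_rfl, hwa _ (hq i),
      Injective.comp_factorThru, prodProj, dif_neg (by omega), comp_zero, ← Category.assoc] at h
    exact (cancel_mono (Injective.ι _)).1 (h.trans zero_comp.symm)
  have hsu : StrictUp u := by
    intro p p' h
    obtain ⟨n, hn⟩ : ∃ n : ℕ, p' = p + n := ⟨(p' - p).toNat, by omega⟩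
    induction n generalizing p with
    | zero =>
      obtain rfl : p' = p := by simpa using hn
      intro T x y hxy
      exact ⟨T, 𝟙 T, inferInstance, x, by simpa using hxy.symm⟩
    | succ n ih =>
      intro T x y hxy
      have hpp : p + 1 ≤ p' := by omega
      obtain ⟨T₁, π₁, hπ₁, x₁, hx₁⟩ := exists_of_gπ_eq_zero x (key p T x (y ≫ st (prodFun q J) hpp)
        (hxy.trans ((congrArg (y ≫ ·) (st_comp (prodFun q J) _ _)).symm.trans (Category.assoc _ _ _).symm)))
      have h₁ : x₁ ≫ u.app (op (p + 1)) = (π₁ ≫ y) ≫ st (prodFun q J) hpp := by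
        haveI : Mono (st (prodFun q J) (Int.le_add_one (le_refl p))) := mono_st (prodFil q J) _
        rw [← cancel_mono (st (prodFun q J) (Int.le_add_one (le_refl p))), Category.assoc, Category.assoc, Category.assoc,
          st_comp]
        refine (congrArg (x₁ ≫ ·) (st_nat u _).symm).trans ?_
        rw [← reassoc_of% hx₁]
        exact congrArg (π₁ ≫ ·) hxy
      obtain ⟨T₂, π₂, hπ₂, x', hx'⟩ := ih (p + 1) hpp (by omega) T₁ x₁ _ h₁
      exact ⟨T₂, π₂ ≫ π₁, epi_comp' hπ₂ hπ₁, x', by rw [Category.assoc]; exact hx'⟩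
  have hmono : ∀ p : ℤ, Mono (u.app (op p)) := by
    suffices ∀ (n : ℕ) (p : ℤ), b ≤ p + n → Mono (u.app (op p)) from fun p => this (b - p).toNat p (by omega)
    intro n
    induction n with
    | zero => exact fun p hp => Preadditive.mono_of_cancel_zero _ fun x _ => (hb p (by omega)).eq_of_tgt _ _
    | succ n ih =>
      intro p hp
      haveI := ih (p + 1) (by omega)
      refine Preadditive.mono_of_cancel_zero _ fun {T} x hx => ?_
      obtain ⟨T₁, π₁, hπ₁, x₁, hx₁⟩ := exists_of_gπ_eq_zero x (key p T x 0 (by rw [zero_comp]; exact hx))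
      have : x₁ = 0 := by
        haveI : Mono (st (prodFun q J) (Int.le_add_one (le_refl p))) := mono_st (prodFil q J) _
        rw [← cancel_mono (u.app (op (p + 1))), zero_comp,
          ← cancel_mono (st (prodFun q J) (Int.le_add_one (le_refl p))), zero_comp, Category.assoc, ← st_nat,
          ← reassoc_of% hx₁, hx, comp_zero]
      rw [← cancel_epi π₁, hx₁, this, zero_comp, comp_zero]
  haveI : ∀ p, Mono (u.app p) := fun p => hmono p.unop
  haveI : Mono u := NatTrans.mono_of_mono_app _
  exact ⟨prodFil q J, ObjectProperty.homMk u, isFilteredInjective_prodFil q J,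
    (FilD.IsFinFil A).ι.mono_of_mono_map (show Mono u from inferInstance), hsu⟩

end Groth.Agent.H16Derived.FilLib
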