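import Groth.Agent.H16Derived.FilD.Gr
import Groth.Agent.H16Derived.FilD.Inj
import Groth.Prelude.Def_SpSeq
import Mathlib.CategoryTheory.Abelian.Injective.Resolution

/-!
# Injective resolutions of finite filtered objects
-/

set_option autoImplicit false
set_option linter.style.haveILetI false

universe v u

open CategoryTheory CategoryTheory.Limits Opposite

namespace Groth.Agent.H16Derived.FilLib.FilRes

section Seq

variable {C : Type u} [Category.{v} C] [Abelian C] (Y J : ℕ → C) (m : ∀ n, Y n ⟶ J n)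
  (e : ∀ n, J n ⟶ Y (n + 1)) (w : ∀ n, m n ≫ e n = 0)

include w in
lemma d_sq (n : ℕ) : (e n ≫ m (n + 1)) ≫ e (n + 1) ≫ m (n + 1 + 1) = 0 := by
  rw [Category.assoc, reassoc_of% (w (n + 1)), zero_comp, comp_zero]

/-- The complex spliced from short exact sequences. -/
noncomputable def spl : CochainComplex C ℕ :=
  CochainComplex.of J (fun n => e n ≫ m (n + 1)) (d_sq Y J m e w)

lemma spl_d (n : ℕ) : (spl Y J m e w).d n (n + 1) = e n ≫ m (n + 1) :=
  by simp [spl]

/-- The augmentation. -/
noncomputable def aug : (CochainComplex.single₀ C).obj (Y 0) ⟶ spl Y J m e w :=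
  (CochainComplex.fromSingle₀Equiv _ _).symm ⟨m 0, by
    rw [spl_d]
    change @Eq (Y 0 ⟶ J 1) (m 0 ≫ e 0 ≫ m 1) 0
    rw [reassoc_of% (w 0), zero_comp]⟩

variable (hm : ∀ n, Mono (m n)) (he : ∀ n, Epi (e n))
  (hex : ∀ n, (ShortComplex.mk (m n) (e n) (w n)).Exact)

include hm he hex in
theorem quasiIso_aug : QuasiIso (aug Y J m e w) := by
  have hd : ∀ n, (spl Y J m e w).d n (n + 1) = e n ≫ m (n + 1) := spl_d Y J m e w
  refine ⟨fun n => ?_⟩
  cases n with
  | zero =>
    rw [CochainComplex.quasiIsoAt₀_iff, ShortComplex.quasiIso_iff_of_zeros]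
    · have h1 : (ShortComplex.mk (m 0) (e 0 ≫ m 1) (by rw [reassoc_of% (w 0), zero_comp])).Exact := by
        rw [ShortComplex.exact_iff_exact_up_to_refinements]
        intro T x (hx : x ≫ e 0 ≫ m 1 = 0)
        haveI := hm 1
        exact (hex 0).exact_up_to_refinements x
          ((cancel_mono (m 1)).1 (by rw [Category.assoc, hx, zero_comp]))
      refine (ShortComplex.exact_and_mono_f_iff_of_iso ?_).2 ⟨h1, hm 0⟩
      exact ShortComplex.isoMk (Iso.refl _) (Iso.refl _) (Iso.refl _)
        (by simp [aug, CochainComplex.fromSingle₀Equiv]; erw [Category.id_comp, Category.comp_id]) (by simp [hd]; erw [Category.id_comp, Category.comp_id])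
    all_goals rfl
  | succ n =>
    rw [quasiIsoAt_iff_exactAt _ _ (CochainComplex.exactAt_succ_single_obj _ _),
      HomologicalComplex.exactAt_iff' _ n (n + 1) (n + 1 + 1) (by simp) (by simp),
      ShortComplex.exact_iff_exact_up_to_refinements]
    intro T (x : T ⟶ J (n + 1)) (hx : x ≫ (spl Y J m e w).d (n + 1) (n + 1 + 1) = 0)
    haveI := hm (n + 1 + 1)
    haveI := he n
    rw [hd] at hx
    have hx' : x ≫ e (n + 1) ≫ m (n + 1 + 1) = (0 : T ⟶ J (n + 1 + 1)) := hx
    obtain ⟨T₁, q, hq, y, hy⟩ := (hex (n + 1)).exact_up_to_refinements x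
      ((cancel_mono (m (n + 1 + 1))).1 (by dsimp only; rw [Category.assoc, hx', zero_comp]))
    obtain ⟨T₂, q', hq', z, hz⟩ := surjective_up_to_refinements_of_epi (e n) y
    refine ⟨T₂, q' ≫ q, inferInstance, z, ?_⟩
    show (q' ≫ q) ≫ x = z ≫ (spl Y J m e w).d n (n + 1)
    rw [hd, Category.assoc, hy]
    exact ((Category.assoc _ _ _).symm.trans ((congrArg (· ≫ m (n + 1)) hz).trans (Category.assoc _ _ _)))

end Seq

variable {A : Type u} [Category.{v} A] [Abelian A]

/-- One step of a resolution by filtered injectives. -/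
structure Step (Y : FilD.FilF A) where
  J : FilD.FilF A
  u : Y ⟶ J
  inj : FilD.IsFilteredInjective J
  mono : Mono u
  strict : StrictUp u.hom

lemma nonempty_step [EnoughInjectives A] (Y : FilD.FilF A) : Nonempty (Step Y) :=
  let ⟨J, u, h₁, h₂, h₃⟩ := exists_strictMono Y
  ⟨⟨J, u, h₁, h₂, h₃⟩⟩

variable [EnoughInjectives A] (K : FilD.FilF A)

/-- The successive cokernels. -/
noncomputable def Ys : ℕ → FilD.FilF A
  | 0 => K
  | n + 1 => coker (nonempty_step (Ys n)).some.u (nonempty_step (Ys n)).some.strict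

/-- The terms. -/
noncomputable def Js (n : ℕ) : FilD.FilF A := (nonempty_step (Ys K n)).some.J

/-- The inclusions. -/
noncomputable def ms (n : ℕ) : (Ys K n).obj ⟶ (Js K n).obj := (nonempty_step (Ys K n)).some.u.hom

/-- The projections. -/
noncomputable def es (n : ℕ) : (Js K n).obj ⟶ (Ys K (n + 1)).obj := cokernel.π (ms K n)

lemma ws (p : ℤ) (n : ℕ) : (ms K n).app (op p) ≫ (es K n).app (op p) = 0 := by
  exact congr_app (cokernel.condition (ms K n)) (op p)

/-- Level `p` of the resolution. -/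
noncomputable def levCx (p : ℤ) : CochainComplex A ℕ :=
  spl (fun n => (Ys K n).obj.obj (op p)) (fun n => (Js K n).obj.obj (op p))
    (fun n => (ms K n).app (op p)) (fun n => (es K n).app (op p)) (ws K p)

/-- The augmentation of level `p`. -/
noncomputable def levAug (p : ℤ) :
    (CochainComplex.single₀ A).obj (K.obj.obj (op p)) ⟶ levCx K p :=
  aug (fun n => (Ys K n).obj.obj (op p)) (fun n => (Js K n).obj.obj (op p))
    (fun n => (ms K n).app (op p)) (fun n => (es K n).app (op p)) (ws K p)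

lemma levAug_f_zero (p : ℤ) : (levAug K p).f 0 = (ms K 0).app (op p) := by
  simp [levAug, aug, CochainComplex.fromSingle₀Equiv]

instance quasiIso_levAug (p : ℤ) : QuasiIso (levAug K p) := by
  refine quasiIso_aug _ _ _ _ _ (fun n => ?_) (fun n => ?_) (fun n => ?_)
  · haveI : Mono (nonempty_step (Ys K n)).some.u := (nonempty_step (Ys K n)).some.mono
    exact mono_app_of_mono (nonempty_step (Ys K n)).some.u (op p)
  · exact (inferInstance : Epi ((lev p).map (cokernel.π (ms K n))))
  · exact (ShortComplex.exact_of_g_is_cokernel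
      (ShortComplex.mk (ms K n) (cokernel.π (ms K n)) (cokernel.condition _))
      (cokernelIsCokernel _)).map (lev p)

instance injective_levCx (p : ℤ) (n : ℕ) : Injective ((levCx K p).X n) :=
  injective_level (Js K n) (nonempty_step (Ys K n)).some.inj p

/-- The transition maps between levels. -/
noncomputable def trans {p q : ℤ} (h : p ≤ q) : levCx K q ⟶ levCx K p where
  f n := st (Js K n).obj h
  comm' i j hij := by
    obtain rfl : i + 1 = j := hij
    rw [show (levCx K p).d i (i + 1) = _ from spl_d _ _ _ _ _ i,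
      show (levCx K q).d i (i + 1) = _ from spl_d _ _ _ _ _ i]
    change st (Js K i).obj h ≫ (es K i).app (op p) ≫ (ms K (i + 1)).app (op p) =
      ((es K i).app (op q) ≫ (ms K (i + 1)).app (op q)) ≫ st (Js K (i + 1)).obj h
    rw [← NatTrans.comp_app, ← NatTrans.comp_app]
    exact st_nat _ h

instance mono_trans {p q : ℤ} (h : p ≤ q) : Mono (trans K h) := by
  haveI : ∀ n, Mono ((trans K h).f n) := fun n => mono_st (Js K n) h
  exact HomologicalComplex.mono_of_mono_f _ (fun n => inferInstance)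

lemma trans_comp {p q r : ℤ} (h : p ≤ q) (h' : q ≤ r) :
    trans K h' ≫ trans K h = trans K (h.trans h') := by
  refine HomologicalComplex.hom_ext _ _ fun n => ?_
  exact st_comp _ h h'

lemma levAug_trans {p q : ℤ} (h : p ≤ q) :
    levAug K q ≫ trans K h = (CochainComplex.single₀ A).map (st K.obj h) ≫ levAug K p := by
  apply HomologicalComplex.from_single_hom_ext
  rw [HomologicalComplex.comp_f, HomologicalComplex.comp_f, levAug_f_zero, levAug_f_zero,
    CochainComplex.single₀_map_f_zero]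
  exact (st_nat (ms K 0) h).symm

end Groth.Agent.H16Derived.FilLib.FilRes

namespace Groth.Agent.H16Derived.FilLib.FilRes

variable {A : Type u} [Category.{v} A] [Abelian A]

open ZeroObject

/-- A finite filtration as a finite filtered object. -/
noncomputable def toFilF (K : SpSeq.FilObj A) (hK : K.IsFinite) : FilD.FilF A :=
  ⟨{ obj := fun p => K.step p.unop
     map := fun {p q} f => K.stepLE (leOfHom f.unop)
     map_id := fun p => Subobject.ofLE_refl _
     map_comp := fun f g => (Subobject.ofLE_comp_ofLE _ _ _ _ _).symm },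
    fun p q f => inferInstanceAs (Mono (K.stepLE (leOfHom f.unop))),
    ⟨hK.2.choose, fun p hp => by
      have h : K.fil p = ⊥ := le_bot_iff.1 (hK.2.choose_spec ▸ K.anti hp)
      exact IsZero.of_iso (isZero_zero _) (Subobject.isoOfEq _ _ h ≪≫ Subobject.botCoeIsoZero)⟩,
    ⟨hK.1.choose, fun p q f hp => by
      have ht : ∀ r, r ≤ hK.1.choose → K.fil r = ⊤ := fun r hr =>
        top_le_iff.1 (hK.1.choose_spec ▸ K.anti hr)
      have e : K.fil p.unop = K.fil q.unop := by
        rw [ht _ hp, ht _ ((leOfHom f.unop).trans hp)]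
      refine ⟨Subobject.ofLE _ _ e.ge, ?_, ?_⟩
      · exact (Subobject.ofLE_comp_ofLE _ _ _ _ _).trans (Subobject.ofLE_refl _)
      · exact (Subobject.ofLE_comp_ofLE _ _ _ _ _).trans (Subobject.ofLE_refl _)⟩⟩

theorem exists_filteredResolution [EnoughInjectives A] (K : SpSeq.FilObj A) (hK : K.IsFinite) :
    ∃ (X : InjectiveResolution K.obj) (G : ℤ → Subobject X.cocomplex), Antitone G ∧
      (∀ i : ℤ, K.fil i = ⊤ → G i = ⊤) ∧ (∀ i : ℤ, K.fil i = ⊥ → G i = ⊥) ∧
      ∀ i : ℤ, (∀ j : ℕ, Injective ((G i : CochainComplex A ℕ).X j)) ∧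
        ∃ ι : (CochainComplex.single₀ A).obj (K.step i) ⟶ (G i : CochainComplex A ℕ),
          ι ≫ (G i).arrow = (CochainComplex.single₀ A).map (K.fil i).arrow ≫ X.ι ∧ QuasiIso ι := by
  classical
  let S₀ := CochainComplex.single₀ A
  have inj_of_iso : ∀ {L L' : CochainComplex A ℕ}, (L' ≅ L) → (∀ j, Injective (L.X j)) →
      ∀ j, Injective (L'.X j) := fun {L L'} e h j =>
    Injective.of_iso ((HomologicalComplex.eval A (ComplexShape.up ℕ) j).mapIso e).symm (h j)
  have qis_zero : ∀ {L L' : CochainComplex A ℕ}, IsZero L → IsZero L' → ∀ f : L ⟶ L', QuasiIso f :=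
    fun {L L'} hL hL' f => by
      haveI : IsIso f := ⟨0, hL.eq_of_src _ _, hL'.eq_of_src _ _⟩
      infer_instance
  have hbot : ∀ (L : CochainComplex A ℕ), IsZero ((⊥ : Subobject L) : CochainComplex A ℕ) := fun L =>
    IsZero.of_iso (isZero_zero _) Subobject.botCoeIsoZero
  by_cases hz : (⊤ : Subobject K.obj) = ⊥
  · have hobj : IsZero K.obj := IsZero.of_iso (isZero_zero _)
      ((asIso (⊤ : Subobject K.obj).arrow).symm ≪≫ Subobject.isoOfEq _ _ hz ≪≫ Subobject.botCoeIsoZero)
    have hstep : ∀ i, IsZero (K.step i) := fun i => IsZero.of_mono (K.fil i).arrow hobj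
    have h0 : IsZero (0 : CochainComplex A ℕ) := isZero_zero _
    have h0X : ∀ j, Injective ((0 : CochainComplex A ℕ).X j) := fun j =>
      (Functor.map_isZero (HomologicalComplex.eval A (ComplexShape.up ℕ) j) h0).injective
    let X : InjectiveResolution K.obj :=
      { cocomplex := 0
        injective := h0X
        ι := 0
        quasiIso := qis_zero (S₀.map_isZero hobj) h0 _ }
    have hX : ∀ s t : Subobject X.cocomplex, s = t := fun s t =>
      Subobject.eq_of_comm ((IsZero.of_mono s.arrow h0).iso (IsZero.of_mono t.arrow h0)) (h0.eq_of_tgt _ _)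
    refine ⟨X, fun _ => ⊥, fun _ _ _ => le_rfl, fun _ _ => hX _ _, fun _ _ => rfl, fun i => ⟨?_, 0, h0.eq_of_tgt _ _,
      qis_zero (S₀.map_isZero (hstep i)) (hbot _) _⟩⟩
    exact fun j => (Functor.map_isZero (HomologicalComplex.eval A (ComplexShape.up ℕ) j) (hbot _)).injective
  obtain ⟨a₀, ha⟩ := hK.1
  let F := toFilF K hK
  haveI : IsIso (K.fil a₀).arrow := (Subobject.isIso_arrow_iff_eq_top _).2 ha
  let X : InjectiveResolution K.obj :=
    { cocomplex := levCx F a₀
      injective := injective_levCx F a₀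
      ι := S₀.map (inv (K.fil a₀).arrow) ≫ levAug F a₀
      quasiIso := by
        exact quasiIso_comp (hφ := inferInstance) (hφ' := quasiIso_levAug F a₀) _ _ }
  have hai : ∀ i, K.fil i ≠ ⊤ → a₀ ≤ i := fun i hi => le_of_not_ge fun h => hi
    (top_le_iff.1 (ha ▸ K.anti h))
  let G : ℤ → Subobject X.cocomplex := fun i =>
    if h : K.fil i = ⊤ then ⊤ else if K.fil i = ⊥ then ⊥ else Subobject.mk (trans F (hai i h))
  have hG1 : ∀ i, K.fil i = ⊤ → G i = ⊤ := fun i h => dif_pos h
  have hG2 : ∀ i, K.fil i = ⊥ → G i = ⊥ := fun i h => by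
    have h' : K.fil i ≠ ⊤ := fun h' => hz (h'.symm.trans h)
    simp only [G, dif_neg h', if_pos h]
  have hG3 : ∀ i (h : K.fil i ≠ ⊤), K.fil i ≠ ⊥ → G i = Subobject.mk (trans F (hai i h)) :=
    fun i h h' => by simp only [G, dif_neg h, if_neg h']
  refine ⟨X, G, fun i j hij => ?_, hG1, hG2, fun i => ?_⟩
  · by_cases h1 : K.fil i = ⊤
    · rw [hG1 i h1]; exact le_top
    by_cases h2 : K.fil j = ⊥
    · rw [hG2 j h2]; exact bot_le
    have h3 : K.fil j ≠ ⊤ := fun h => h1 (top_le_iff.1 (h ▸ K.anti hij))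
    have h4 : K.fil i ≠ ⊥ := fun h => h2 (le_bot_iff.1 (h ▸ K.anti hij))
    rw [hG3 i h1 h4, hG3 j h3 h2]
    exact Subobject.mk_le_mk_of_comm (trans F hij) (trans_comp F (hai i h1) hij)
  by_cases h1 : K.fil i = ⊤
  · rw [hG1 i h1]
    haveI : IsIso (K.fil i).arrow := (Subobject.isIso_arrow_iff_eq_top _).2 h1
    refine ⟨inj_of_iso (asIso (⊤ : Subobject X.cocomplex).arrow) X.injective,
      S₀.map (K.fil i).arrow ≫ X.ι ≫ inv (⊤ : Subobject X.cocomplex).arrow, by simp [S₀], ?_⟩
    haveI : QuasiIso X.ι := X.quasiIso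
    exact quasiIso_comp _ _
  by_cases h2 : K.fil i = ⊥
  · rw [hG2 i h2]
    have hstep : IsZero (K.step i) :=
      IsZero.of_iso (isZero_zero _) (Subobject.isoOfEq _ _ h2 ≪≫ Subobject.botCoeIsoZero)
    exact ⟨fun j => (Functor.map_isZero (HomologicalComplex.eval A (ComplexShape.up ℕ) j) (hbot _)).injective,
      0, (S₀.map_isZero hstep).eq_of_src _ _, qis_zero (S₀.map_isZero hstep) (hbot _) _⟩
  rw [hG3 i h1 h2]
  let e := Subobject.underlyingIso (trans F (hai i h1))
  refine ⟨inj_of_iso e (injective_levCx F i), levAug F i ≫ e.inv, ?_, ?_⟩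
  · rw [Category.assoc, Subobject.underlyingIso_arrow]
    refine (levAug_trans F (hai i h1)).trans ?_
    show _ = S₀.map (K.fil i).arrow ≫ S₀.map (inv (K.fil a₀).arrow) ≫ levAug F a₀
    rw [← Category.assoc, ← Functor.map_comp]
    congr 2
    exact (IsIso.eq_comp_inv (C := A) (K.fil a₀).arrow).2 (Subobject.ofLE_arrow _)
  · exact quasiIso_comp (hφ := quasiIso_levAug F i) (hφ' := inferInstance) _ _

end Groth.Agent.H16Derived.FilLib.FilRes
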