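import Groth.Agent.H16Derived.FilD.Inj
import Mathlib.CategoryTheory.Preadditive.Biproducts
import Mathlib.CategoryTheory.Preadditive.AdditiveFunctor

/-!
# Finite filtered objects: sums, cokernels and kernels of strict maps
-/

set_option autoImplicit false
set_option linter.style.haveILetI false

universe v u

open CategoryTheory CategoryTheory.Limits Opposite

namespace Groth.Agent.H16Derived.FilLib

variable {A : Type u} [Category.{v} A] [Abelian A]

section Biprod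

variable (X Y : FilD.FilF A)

lemma isFinFil_biprod : FilD.IsFinFil A (X.obj ⊞ Y.obj) := by
  let fs : X.obj ⊞ Y.obj ⟶ X.obj := biprod.fst
  let sn : X.obj ⊞ Y.obj ⟶ Y.obj := biprod.snd
  let il : X.obj ⟶ X.obj ⊞ Y.obj := biprod.inl
  let ir : Y.obj ⟶ X.obj ⊞ Y.obj := biprod.inr
  have htot : ∀ p, fs.app p ≫ il.app p + sn.app p ≫ ir.app p = 𝟙 _ := fun p => by
    rw [← NatTrans.comp_app, ← NatTrans.comp_app, ← NatTrans.app_add, ← NatTrans.id_app]
    exact congrArg (fun f : (X.obj ⊞ Y.obj) ⟶ X.obj ⊞ Y.obj => f.app p) biprod.total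
  have hext : ∀ p (T : A) (x y : T ⟶ (X.obj ⊞ Y.obj).obj p),
      x ≫ fs.app p = y ≫ fs.app p → x ≫ sn.app p = y ≫ sn.app p → x = y := fun p T x y h₁ h₂ => by
    rw [← Category.comp_id x, ← Category.comp_id y, ← htot p, Preadditive.comp_add, Preadditive.comp_add,
      reassoc_of% h₁, reassoc_of% h₂]
  refine ⟨fun p q f => ⟨fun x y h => hext p _ x y ?_ ?_⟩, ?_, ?_⟩
  · haveI : Mono (X.obj.map f) := X.property.1 f
    rw [← cancel_mono (X.obj.map f), Category.assoc, Category.assoc, ← fs.naturality, reassoc_of% h]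
  · haveI : Mono (Y.obj.map f) := Y.property.1 f
    rw [← cancel_mono (Y.obj.map f), Category.assoc, Category.assoc, ← sn.naturality, reassoc_of% h]
  · obtain ⟨b, hb⟩ := exists_bound X
    obtain ⟨c, hc⟩ := exists_bound Y
    exact ⟨max b c, fun p hp => (IsZero.iff_id_eq_zero _).2 (hext _ _ _ _
      ((hb p (le_of_max_le_left hp)).eq_of_tgt _ _) ((hc p (le_of_max_le_right hp)).eq_of_tgt _ _))⟩
  · obtain ⟨a, ha⟩ := X.property.2.2
    obtain ⟨a', ha'⟩ := Y.property.2.2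
    refine ⟨min a a', fun p q f hp => ?_⟩
    haveI := ha f (hp.trans (min_le_left _ _))
    haveI := ha' f (hp.trans (min_le_right _ _))
    refine ⟨fs.app q ≫ inv (X.obj.map f) ≫ il.app p + sn.app q ≫ inv (Y.obj.map f) ≫ ir.app p, ?_, ?_⟩
    · simp only [Preadditive.comp_add, ← Category.assoc, fs.naturality, sn.naturality]
      simp [htot]
    · simp only [Preadditive.add_comp, Category.assoc, ← il.naturality, ← ir.naturality, IsIso.inv_hom_id_assoc]
      exact htot q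

instance hasBinaryBiproduct_filF : HasBinaryBiproduct X Y :=
  hasBinaryBiproduct_of_total
    { pt := ⟨X.obj ⊞ Y.obj, isFinFil_biprod X Y⟩
      fst := ObjectProperty.homMk biprod.fst
      snd := ObjectProperty.homMk biprod.snd
      inl := ObjectProperty.homMk biprod.inl
      inr := ObjectProperty.homMk biprod.inr
      inl_fst := InducedCategory.hom_ext (biprod.inl_fst : _)
      inl_snd := InducedCategory.hom_ext (biprod.inl_snd : _)
      inr_fst := InducedCategory.hom_ext (biprod.inr_fst : _)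
      inr_snd := InducedCategory.hom_ext (biprod.inr_snd : _) }
    (InducedCategory.hom_ext (biprod.total : _))

instance hasBinaryBiproducts_filF : HasBinaryBiproducts (FilD.FilF A) := ⟨fun X Y => hasBinaryBiproduct_filF X Y⟩

end Biprod

/-! ## Strictness -/

section Strict

variable {F G H : ℤᵒᵖ ⥤ A}

lemma strictUp_zero (hG : ∀ {p q : ℤ} (h : p ≤ q), Mono (st G h)) : StrictUp (0 : F ⟶ G) := by
  intro p q h T x y hxy
  haveI := hG h
  have : y = 0 := by rw [← cancel_mono (st G h), ← hxy]; simp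
  exact ⟨T, 𝟙 T, inferInstance, 0, by simp [this]⟩

lemma strictUp_of_section (φ : F ⟶ G) (s : G ⟶ F) (hs : s ≫ φ = 𝟙 G) : StrictUp φ := by
  intro p q h T x y _
  refine ⟨T, 𝟙 T, inferInstance, y ≫ s.app (op q), ?_⟩
  rw [Category.id_comp, Category.assoc, ← NatTrans.comp_app, hs]
  simp

lemma strictUp_epi_comp {φ : F ⟶ G} {ψ : G ⟶ H} (hψ : StrictUp ψ) (s : G ⟶ F) (hs : s ≫ φ = 𝟙 G) :
    StrictUp (φ ≫ ψ) := by
  intro p q h T x y hxy
  obtain ⟨T', π, hπ, x', hx'⟩ := hψ p q h T (x ≫ φ.app (op p)) y (by simpa using hxy)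
  refine ⟨T', π, hπ, x' ≫ s.app (op q), ?_⟩
  rw [hx', Category.assoc, ← NatTrans.comp_app, reassoc_of% hs]

lemma strictUp_of_comp (ψ : F ⟶ G) (π : G ⟶ H) (hψ : StrictUp (ψ ≫ π)) (hm : ∀ p, Mono ((ψ ≫ π).app p))
    (hG : ∀ {p q : ℤ} (h : p ≤ q), Mono (st G h)) : StrictUp ψ := by
  intro p q h T x y hxy
  obtain ⟨T', e, he, x', hx'⟩ := hψ p q h T x (y ≫ π.app (op q))
    (by rw [Category.assoc, ← st_nat, ← reassoc_of% hxy, ← NatTrans.comp_app])
  refine ⟨T', e, he, x', ?_⟩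
  haveI := hG h
  haveI := hm (op p)
  have hx : e ≫ x = x' ≫ st F h := by
    rw [← cancel_mono ((ψ ≫ π).app (op p)), Category.assoc x', st_nat, ← reassoc_of% hx', NatTrans.comp_app,
      ← st_nat, Category.assoc, reassoc_of% hxy]
  rw [← cancel_mono (st G h), Category.assoc, Category.assoc, ← hxy, ← st_nat, reassoc_of% hx]

end Strict

lemma mono_gr_map {X Y : FilD.FilF A} (φ : X ⟶ Y) [Mono φ] (hφ : StrictUp φ.hom) (p : ℤ) :
    Mono ((FilD.gr A p).map φ.hom) := by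
  refine Preadditive.mono_of_cancel_zero _ fun {T} x hx => ?_
  obtain ⟨T₁, π₁, hπ₁, x₁, hx₁⟩ := surjective_up_to_refinements_of_epi (gπ X.obj p) x
  obtain ⟨T₂, π₂, hπ₂, y, hy⟩ := exists_of_gπ_eq_zero (x₁ ≫ φ.hom.app (op p))
    (by rw [Category.assoc, ← gπ_nat, ← reassoc_of% hx₁, hx, comp_zero])
  obtain ⟨T₃, π₃, hπ₃, x₂, hx₂⟩ := hφ p (p + 1) _ T₂ (π₂ ≫ x₁) y ((Category.assoc _ _ _).trans hy)
  haveI := mono_app_of_mono φ (op p)
  have h : π₃ ≫ π₂ ≫ x₁ = x₂ ≫ st X.obj (Int.le_add_one (le_refl p)) := by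
    rw [← cancel_mono (φ.hom.app (op p))]
    simp only [Category.assoc, st_nat, ← reassoc_of% hx₂, hy]
  haveI := hπ₁; haveI := hπ₂; haveI := hπ₃
  rw [← cancel_epi π₁, ← cancel_epi π₂, ← cancel_epi π₃, hx₁, reassoc_of% h, st_gπ, comp_zero]
  simp

lemma epi_gr_map {F G : ℤᵒᵖ ⥤ A} (φ : F ⟶ G) (p : ℤ) [Epi (φ.app (op p))] : Epi ((FilD.gr A p).map φ) := by
  haveI : Epi (gπ F p ≫ (FilD.gr A p).map φ) := by rw [gπ_nat]; infer_instance
  exact epi_of_epi (gπ F p) _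

/-- Right exactness of `gr`. -/
lemma exact_gr_of_exact_epi {F G H : ℤᵒᵖ ⥤ A} (f : F ⟶ G) (g : G ⟶ H) (w : f ≫ g = 0) (p : ℤ)
    (hex : ∀ (T : A) (y : T ⟶ G.obj (op p)), y ≫ g.app (op p) = 0 →
      ∃ (T' : A) (π : T' ⟶ T) (_ : Epi π) (x : T' ⟶ F.obj (op p)), π ≫ y = x ≫ f.app (op p))
    [Epi (g.app (op (p + 1)))] : ((ShortComplex.mk f g w).map (FilD.gr A p)).Exact := by
  rw [ShortComplex.exact_iff_exact_up_to_refinements]
  intro T (c : T ⟶ (FilD.gr A p).obj G) (hc : c ≫ (FilD.gr A p).map g = 0)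
  obtain ⟨T₁, π₁, hπ₁, y, hy⟩ := surjective_up_to_refinements_of_epi (gπ G p) c
  obtain ⟨T₂, π₂, hπ₂, z, hz⟩ := exists_of_gπ_eq_zero (y ≫ g.app (op p))
    (by rw [Category.assoc, ← gπ_nat, ← reassoc_of% hy, hc, comp_zero])
  obtain ⟨T₃, π₃, hπ₃, y', hy'⟩ := surjective_up_to_refinements_of_epi (g.app (op (p + 1))) z
  obtain ⟨T₄, π₄, hπ₄, x, hx⟩ := hex T₃ (π₃ ≫ π₂ ≫ y - y' ≫ st G (Int.le_add_one (le_refl p))) (by
    rw [Preadditive.sub_comp, Category.assoc, Category.assoc, Category.assoc, hz, st_nat, reassoc_of% hy', sub_self])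
  refine ⟨T₄, π₄ ≫ π₃ ≫ π₂ ≫ π₁, epi_comp' hπ₄ (epi_comp' hπ₃ (epi_comp' hπ₂ hπ₁)), x ≫ gπ F p, ?_⟩
  show (π₄ ≫ π₃ ≫ π₂ ≫ π₁) ≫ c = (x ≫ gπ F p) ≫ (FilD.gr A p).map f
  rw [Category.assoc x, gπ_nat, ← reassoc_of% hx]
  simp [hy]

lemma exists_lift_cokernel {F G : ℤᵒᵖ ⥤ A} (φ : F ⟶ G) (p : ℤ) (T : A) (y : T ⟶ G.obj (op p))
    (hy : y ≫ (cokernel.π φ).app (op p) = 0) :
    ∃ (T' : A) (π : T' ⟶ T) (_ : Epi π) (x : T' ⟶ F.obj (op p)), π ≫ y = x ≫ φ.app (op p) :=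
  ((ShortComplex.exact_cokernel φ).map (lev p)).exact_up_to_refinements y hy

instance epi_cokernelπ_app {F G : ℤᵒᵖ ⥤ A} (φ : F ⟶ G) (p : ℤᵒᵖ) : Epi ((cokernel.π φ).app p) :=
  inferInstanceAs (Epi (((evaluation ℤᵒᵖ A).obj p).map (cokernel.π φ)))

lemma isFinFil_cokernel {X Y : FilD.FilF A} (φ : X ⟶ Y) (hφ : StrictUp φ.hom) :
    FilD.IsFinFil A (cokernel φ.hom) := by
  refine ⟨fun {p q} f => ?_, ?_, ?_⟩
  · refine Preadditive.mono_of_cancel_zero _ fun {T} z hz => ?_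
    obtain ⟨T₁, π₁, hπ₁, y, hy⟩ := surjective_up_to_refinements_of_epi ((cokernel.π φ.hom).app p) z
    obtain ⟨T₂, π₂, hπ₂, x, hx⟩ := exists_lift_cokernel φ.hom q.unop T₁ (y ≫ Y.obj.map f) (by
      show (y ≫ Y.obj.map f) ≫ (cokernel.π φ.hom).app q = 0
      rw [Category.assoc, (cokernel.π φ.hom).naturality, ← reassoc_of% hy, hz, comp_zero])
    obtain ⟨T₃, π₃, hπ₃, x', hx'⟩ := hφ q.unop p.unop (leOfHom f.unop) T₂ x (π₂ ≫ y)
      (hx.symm.trans (Category.assoc _ _ _).symm)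
    have hx'' : π₃ ≫ π₂ ≫ y = x' ≫ φ.hom.app p := hx'
    haveI := hπ₁; haveI := hπ₂; haveI := hπ₃
    rw [← cancel_epi π₁, ← cancel_epi π₂, ← cancel_epi π₃, hy, reassoc_of% hx'', ← NatTrans.comp_app,
      cokernel.condition]
    simp
  · obtain ⟨b, hb⟩ := exists_bound Y
    exact ⟨b, fun p hp => IsZero.of_epi ((cokernel.π φ.hom).app (op p)) (hb p hp)⟩
  · obtain ⟨a, ha⟩ := X.property.2.2
    obtain ⟨a', ha'⟩ := Y.property.2.2
    refine ⟨min a a', fun p q f hp => ?_⟩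
    haveI := ha f (hp.trans (min_le_left _ _))
    haveI := ha' f (hp.trans (min_le_right _ _))
    haveI : Epi (Y.obj.map f ≫ (cokernel.π φ.hom).app q) := inferInstance
    haveI : Epi ((cokernel φ.hom).map f) := by
      haveI : Epi ((cokernel.π φ.hom).app p ≫ (cokernel φ.hom).map f) := by
        rw [← (cokernel.π φ.hom).naturality]; infer_instance
      exact epi_of_epi ((cokernel.π φ.hom).app p) _
    haveI : Mono ((cokernel φ.hom).map f) := by
      refine Preadditive.mono_of_cancel_zero _ fun {T} z hz => ?_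
      obtain ⟨T₁, π₁, hπ₁, y, hy⟩ := surjective_up_to_refinements_of_epi ((cokernel.π φ.hom).app p) z
      obtain ⟨T₂, π₂, hπ₂, x, hx⟩ := exists_lift_cokernel φ.hom q.unop T₁ (y ≫ Y.obj.map f) (by
        show (y ≫ Y.obj.map f) ≫ (cokernel.π φ.hom).app q = 0
        rw [Category.assoc, (cokernel.π φ.hom).naturality, ← reassoc_of% hy, hz, comp_zero])
      have hx' : π₂ ≫ y = (x ≫ inv (X.obj.map f)) ≫ φ.hom.app p := by
        rw [← cancel_mono (Y.obj.map f), Category.assoc, Category.assoc, Category.assoc, ← φ.hom.naturality,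
          IsIso.inv_hom_id_assoc]
        exact hx
      haveI := hπ₁; haveI := hπ₂
      rw [← cancel_epi π₁, ← cancel_epi π₂, hy, reassoc_of% hx', ← NatTrans.comp_app, cokernel.condition]
      simp
    exact isIso_of_mono_of_epi _

/-- The cokernel of a strict map. -/
noncomputable def coker {X Y : FilD.FilF A} (φ : X ⟶ Y) (hφ : StrictUp φ.hom) : FilD.FilF A :=
  ⟨cokernel φ.hom, isFinFil_cokernel φ hφ⟩

/-- The projection to the cokernel of a strict map. -/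
noncomputable def cokerπ {X Y : FilD.FilF A} (φ : X ⟶ Y) (hφ : StrictUp φ.hom) : Y ⟶ coker φ hφ :=
  ObjectProperty.homMk (cokernel.π φ.hom)

@[reassoc (attr := simp)]
lemma coker_condition {X Y : FilD.FilF A} (φ : X ⟶ Y) (hφ : StrictUp φ.hom) : φ ≫ cokerπ φ hφ = 0 :=
  InducedCategory.hom_ext (cokernel.condition φ.hom)

lemma epi_gr_cokerπ {X Y : FilD.FilF A} (φ : X ⟶ Y) (hφ : StrictUp φ.hom) (p : ℤ) :
    Epi ((FilD.gr A p).map (cokerπ φ hφ).hom) := by
  haveI : Epi ((cokerπ φ hφ).hom.app (op p)) := epi_cokernelπ_app φ.hom _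
  exact epi_gr_map _ p

lemma exact_gr_coker {X Y : FilD.FilF A} (φ : X ⟶ Y) (hφ : StrictUp φ.hom) (p : ℤ) :
    ((ShortComplex.mk φ.hom (cokerπ φ hφ).hom (cokernel.condition φ.hom)).map (FilD.gr A p)).Exact := by
  haveI : Epi ((cokerπ φ hφ).hom.app (op (p + 1))) := epi_cokernelπ_app φ.hom _
  exact exact_gr_of_exact_epi _ _ _ _ (exists_lift_cokernel φ.hom p)

lemma mono_gr_kernelι {X Y : FilD.FilF A} (φ : X ⟶ Y) (p : ℤ) :
    Mono ((FilD.gr A p).map (kernel.ι φ.hom)) := by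
  let ι : (⟨kernel φ.hom, isFinFil_kernel φ⟩ : FilD.FilF A) ⟶ X := ObjectProperty.homMk (kernel.ι φ.hom)
  haveI : Mono ι := (FilD.IsFinFil A).ι.mono_of_mono_map (show Mono (kernel.ι φ.hom) from inferInstance)
  refine mono_gr_map ι ?_ p
  intro p q h T x y hxy
  have hy : y ≫ φ.hom.app (op q) = 0 := by
    have hxy' : x ≫ (kernel.ι φ.hom).app (op p) = y ≫ st X.obj h := hxy
    rw [← cancel_mono (st Y.obj h), zero_comp, Category.assoc, ← st_nat, ← reassoc_of% hxy', ← NatTrans.comp_app,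
      kernel.condition]
    simp
  obtain ⟨k, hk⟩ := exists_lift_kernel φ.hom q T y hy
  exact ⟨T, 𝟙 T, inferInstance, k, (Category.id_comp _).trans hk.symm⟩

end Groth.Agent.H16Derived.FilLib
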