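import Groth.Agent.H16Derived.FilD.Gr
import Groth.Agent.H16Derived.AcyclicLES
import Mathlib.Algebra.Homology.HomotopyCategory.Pretriangulated
import Mathlib.CategoryTheory.Triangulated.Yoneda

/-!
# Maps from filtered acyclic complexes to complexes of filtered injectives
-/

set_option autoImplicit false
set_option linter.style.haveILetI false

universe v u

open CategoryTheory CategoryTheory.Limits Opposite

namespace Groth.Agent.H16Derived.FilLib

/-! ## Sequences indexed by `ℤ`, constant below `a` -/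

section Seq

variable {P : ℤ → Type*} (a : ℤ) (z : ∀ n, P n) (step : ∀ n, P n → P (n + 1))

/-- The sequence which is `z` below `a` and continues by `step`. -/
noncomputable def intSeq (n : ℤ) : P n :=
  if n < a then z n else (Int.sub_add_cancel n 1) ▸ step (n - 1) (intSeq (n - 1))
termination_by (n - a + 1).toNat
decreasing_by omega

lemma intSeq_of_lt {n : ℤ} (h : n < a) : intSeq a z step n = z n := by rw [intSeq, if_pos h]

lemma intSeq_succ {n : ℤ} (h : a ≤ n + 1) : intSeq a z step (n + 1) = step n (intSeq a z step n) := by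
  conv_lhs => rw [intSeq, if_neg (not_lt.2 h)]
  have key : ∀ (m : ℤ) (e : m = n) (e' : m + 1 = n + 1),
      e' ▸ step m (intSeq a z step m) = step n (intSeq a z step n) := by
    rintro m rfl e'
    rfl
  exact key _ (by omega) _

end Seq

variable {A : Type u} [Category.{v} A] [Abelian A]

lemma exact_sc'_of_acyclic {K : CochainComplex (FilD.FilF A) ℤ} (hK : FilD.IsFilteredAcyclic K)
    {i j k : ℤ} (hij : i + 1 = j) (hjk : j + 1 = k) (p : ℤ) :
    ((ShortComplex.mk (K.d i j).hom (K.d j k).hom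
      (congrArg InducedCategory.Hom.hom (K.d_comp_d i j k))).map (FilD.gr A p)).Exact :=
  ((HomologicalComplex.exactAt_iff' ((FilD.grCx p).obj K) i j k
    ((ComplexShape.up ℤ).prev_eq' hij) ((ComplexShape.up ℤ).next_eq' hjk)) :).1 (hK p j)

lemma strictUp_d_of_acyclic {K : CochainComplex (FilD.FilF A) ℤ} (hK : FilD.IsFilteredAcyclic K) (i j : ℤ) :
    StrictUp (K.d i j).hom := by
  by_cases h : i + 1 = j
  · exact (strictUp_of_exact_gr _ _ _ (exact_sc'_of_acyclic hK (show i - 1 + 1 = i by omega) h)).2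
  · rw [K.shape i j h]
    exact strictUp_zero fun hh => mono_st (K.X j) hh

/-- A map out of a filtered acyclic complex into a bounded below complex of filtered injectives is
null-homotopic. -/
theorem nullhomotopic (K I : CochainComplex (FilD.FilF A) ℤ) (hK : FilD.IsFilteredAcyclic K) (a : ℤ)
    [I.IsStrictlyGE a] (hI : ∀ n, FilD.IsFilteredInjective (I.X n)) (φ : K ⟶ I) : Nonempty (Homotopy φ 0) := by
  let P : ℤ → Type v := fun n => {h : K.X (n + 1) ⟶ I.X n //
    K.d n (n + 1) ≫ φ.f (n + 1) = K.d n (n + 1) ≫ h ≫ I.d n (n + 1)}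
  have hstep : ∀ n (s : P n), ∃ s' : P (n + 1),
      K.d (n + 1) (n + 1 + 1) ≫ s'.1 = φ.f (n + 1) - s.1 ≫ I.d n (n + 1) := by
    rintro n ⟨h, hh⟩
    have hker : ∀ (p : ℤ) (T : A) (x : T ⟶ (K.X (n + 1)).obj.obj (op p)),
        x ≫ (K.d (n + 1) (n + 1 + 1)).hom.app (op p) = 0 →
        x ≫ (φ.f (n + 1) - h ≫ I.d n (n + 1)).hom.app (op p) = 0 := by
      intro p T x hx
      obtain ⟨T', π, hπ, (x' : T' ⟶ (K.X n).obj.obj (op p)), hx'⟩ := (exact_step_of_exact_gr _ _ _
        (exact_sc'_of_acyclic hK (i := n) rfl (k := n + 1 + 1) rfl) p).exact_up_to_refinements x hx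
      have hx'' : π ≫ x = x' ≫ (K.d n (n + 1)).hom.app (op p) := hx'
      haveI := hπ
      have e : K.d n (n + 1) ≫ (φ.f (n + 1) - h ≫ I.d n (n + 1)) = 0 := by
        rw [Preadditive.comp_sub, hh, sub_self]
      rw [← cancel_epi π, comp_zero, reassoc_of% hx'', ← NatTrans.comp_app,
        show (K.d n (n + 1)).hom ≫ _ = 0 from congrArg InducedCategory.Hom.hom e]
      simp
    obtain ⟨g, hg⟩ := exists_extend' (K.d (n + 1) (n + 1 + 1)) (strictUp_d_of_acyclic hK _ _) (hI (n + 1))
      (φ.f (n + 1) - h ≫ I.d n (n + 1)) hker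
    refine ⟨⟨g, ?_⟩, hg⟩
    rw [reassoc_of% hg, Preadditive.sub_comp, Category.assoc, I.d_comp_d, comp_zero, sub_zero, φ.comm]
  choose step hstep using hstep
  have hzero : ∀ n, n < a → ∀ {T : FilD.FilF A} (f g : T ⟶ I.X n), f = g := fun n hn _ f g =>
    (I.isZero_of_isStrictlyGE a n hn).eq_of_tgt f g
  have hz : ∀ n, n < a → K.d n (n + 1) ≫ φ.f (n + 1) = K.d n (n + 1) ≫ (0 : K.X (n + 1) ⟶ I.X n) ≫ I.d n (n + 1) := by
    intro n hn
    rw [← φ.comm, hzero n hn (φ.f n) 0]
    simp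
  -- the zero section is only used below `a`
  let z : ∀ n, P n ⊕ PUnit.{v + 1} := fun n => if h : n < a then Sum.inl ⟨0, hz n h⟩ else Sum.inr ⟨⟩
  let step' : ∀ n, P n ⊕ PUnit.{v + 1} → P (n + 1) ⊕ PUnit.{v + 1} := fun n s =>
    Sum.map (step n) id s
  let seq := intSeq a z step'
  have hseq : ∀ n, ∃ s : P n, seq n = Sum.inl s := by
    suffices ∀ (k : ℕ) (n : ℤ), n < a + k → ∃ s : P n, seq n = Sum.inl s from
      fun n => this (n - a + 1).toNat n (by omega)
    intro k
    induction k with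
    | zero => exact fun n hn => ⟨⟨0, hz n (by omega)⟩, by simp only [seq, intSeq_of_lt a z step' (show n < a by omega), z, dif_pos (show n < a by omega)]⟩
    | succ k ih =>
      intro n hn
      by_cases hna : n < a
      · exact ⟨⟨0, hz n hna⟩, by simp only [seq, intSeq_of_lt a z step' hna, z, dif_pos hna]⟩
      · obtain ⟨m, rfl⟩ : ∃ m, n = m + 1 := ⟨n - 1, by omega⟩
        obtain ⟨s, hs⟩ := ih m (by omega)
        exact ⟨step m s, by simp only [seq] at hs ⊢; rw [intSeq_succ a z step' (by omega), hs]; rfl⟩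
  choose h hh using hseq
  have hrel : ∀ n, K.d (n + 1) (n + 1 + 1) ≫ (h (n + 1)).1 = φ.f (n + 1) - (h n).1 ≫ I.d n (n + 1) := by
    intro n
    by_cases hn : a ≤ n + 1
    · have e : Sum.inl (h (n + 1)) = (Sum.inl (step n (h n)) : P (n + 1) ⊕ PUnit.{v + 1}) := by
        rw [← hh (n + 1)]
        simp only [seq]
        rw [intSeq_succ a z step' hn, show intSeq a z step' n = Sum.inl (h n) from hh n]
        rfl
      rw [Sum.inl.inj e]
      exact hstep n (h n)
    · exact hzero (n + 1) (by omega) _ _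
  let H : ∀ i j : ℤ, K.X i ⟶ I.X j := fun i j => if e : j + 1 = i then eqToHom (by rw [e]) ≫ (h j).1 else 0
  refine ⟨{ hom := H, zero := fun i j e => dif_neg e, comm := fun i => ?_ }⟩
  obtain ⟨n, rfl⟩ : ∃ n, i = n + 1 := ⟨i - 1, by omega⟩
  rw [HomologicalComplex.zero_f_apply, add_zero,
    dNext_eq H (show (ComplexShape.up ℤ).Rel (n + 1) (n + 1 + 1) from rfl),
    prevD_eq H (show (ComplexShape.up ℤ).Rel n (n + 1) from rfl)]
  simp [H, hrel]

/-- The cone of a filtered quasi-isomorphism is filtered acyclic, and conversely. -/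
lemma isFilteredQuasiIso_iff_acyclic_cone {K L : CochainComplex (FilD.FilF A) ℤ} (φ : K ⟶ L) :
    FilD.IsFilteredQuasiIso φ ↔ FilD.IsFilteredAcyclic (CochainComplex.mappingCone φ) := by
  refine forall_congr' fun p => ?_
  rw [AcyclicLES.quasiIso_iff_acyclic_mappingCone]
  let e := CochainComplex.mappingCone.mapHomologicalComplexIso φ (FilD.grF A p)
  exact ⟨fun h n => (h n).of_iso e.symm, fun h n => (h n).of_iso e⟩

section Bijective

open Pretriangulated

lemma bijective_comp_mor₁ {D : Type*} [Category D] [Preadditive D] [HasZeroObject D] [HasShift D ℤ]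
    [∀ n : ℤ, (shiftFunctor D n).Additive] [Pretriangulated D] (T : Triangle D) (hT : T ∈ distTriang D) (Z : D)
    (h₀ : ∀ f : T.obj₃ ⟶ Z, f = 0) (h₁ : ∀ f : T.obj₃ ⟶ Z⟦(1 : ℤ)⟧, f = 0) :
    Function.Bijective (fun β : T.obj₂ ⟶ Z => T.mor₁ ≫ β) := by
  constructor
  · intro β β' (h : T.mor₁ ≫ β = T.mor₁ ≫ β')
    obtain ⟨γ, hγ⟩ := Triangle.yoneda_exact₂ T hT (β - β') (by rw [Preadditive.comp_sub, sub_eq_zero]; exact h)
    exact sub_eq_zero.1 (hγ.trans (by rw [h₀ γ, comp_zero]))
  · intro γ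
    obtain ⟨β, hβ⟩ := Triangle.yoneda_exact₂ T.invRotate (inv_rot_of_distTriang _ hT) γ (by
      refine (shiftFunctor D (1 : ℤ)).map_injective ?_
      rw [Functor.map_zero]
      let c : T.obj₃ ⟶ (T.invRotate.obj₁)⟦(1 : ℤ)⟧ := ((shiftEquiv D (1 : ℤ)).counitIso.app T.obj₃).inv
      haveI : Epi c := inferInstanceAs (Epi ((shiftEquiv D (1 : ℤ)).counitIso.app T.obj₃).inv)
      exact (cancel_epi c).1 ((h₁ _).trans comp_zero.symm))
    exact ⟨β, hβ.symm⟩

lemma hom_eq_zero_of_acyclic (C I : CochainComplex (FilD.FilF A) ℤ) (hC : FilD.IsFilteredAcyclic C) (a : ℤ)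
    [I.IsStrictlyGE a] (hI : ∀ n, FilD.IsFilteredInjective (I.X n))
    (f : (HomotopyCategory.quotient (FilD.FilF A) (ComplexShape.up ℤ)).obj C ⟶
      (HomotopyCategory.quotient (FilD.FilF A) (ComplexShape.up ℤ)).obj I) : f = 0 := by
  obtain ⟨g, rfl⟩ := (HomotopyCategory.quotient (FilD.FilF A) (ComplexShape.up ℤ)).map_surjective f
  obtain ⟨H⟩ := nullhomotopic C I hC a hI g
  rw [HomotopyCategory.eq_of_homotopy _ _ H, Functor.map_zero]

theorem bijective_precomp (I : CochainComplex (FilD.FilF A) ℤ)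
    (a : ℤ) [I.IsStrictlyGE a] (hI : ∀ n, FilD.IsFilteredInjective (I.X n))
    {K L : CochainComplex (FilD.FilF A) ℤ} (α : K ⟶ L) (hα : FilD.IsFilteredQuasiIso α) :
    Function.Bijective (fun β : (HomotopyCategory.quotient (FilD.FilF A) (ComplexShape.up ℤ)).obj L ⟶
        (HomotopyCategory.quotient (FilD.FilF A) (ComplexShape.up ℤ)).obj I =>
      (HomotopyCategory.quotient (FilD.FilF A) (ComplexShape.up ℤ)).map α ≫ β) := by
  haveI : (I⟦(1 : ℤ)⟧).IsStrictlyGE (a - 1) := I.isStrictlyGE_shift a 1 (a - 1) (by omega)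
  have hC : FilD.IsFilteredAcyclic (CochainComplex.mappingCone α) := (isFilteredQuasiIso_iff_acyclic_cone α).1 hα
  let q := HomotopyCategory.quotient (FilD.FilF A) (ComplexShape.up ℤ)
  refine bijective_comp_mor₁ _ (HomotopyCategory.mappingCone_triangleh_distinguished α) (q.obj I)
    (fun f => hom_eq_zero_of_acyclic _ _ hC a hI f) fun f => ?_
  rw [← cancel_mono ((q.commShiftIso (1 : ℤ)).inv.app I), zero_comp]
  exact hom_eq_zero_of_acyclic _ _ hC (a - 1) (fun n => hI (n + 1)) _

end Bijective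

end Groth.Agent.H16Derived.FilLib
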