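import Groth.Agent.H16Derived.FilD.Lift

/-!
# Resolving an extension of finite filtered objects
-/

set_option autoImplicit false
set_option linter.style.haveILetI false

universe v u

open CategoryTheory CategoryTheory.Limits Opposite

namespace Groth.Agent.H16Derived.FilLib

section Single

variable {C : Type u} [Category.{v} C] [Preadditive C] [HasZeroObject C] {X Y : C} {K L : CochainComplex C ℤ}

/-- The degree zero component of a map out of a single complex. -/
noncomputable def val (f : (CochainComplex.singleFunctor C 0).obj X ⟶ K) : X ⟶ K.X 0 :=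
  (HomologicalComplex.singleObjXSelf (ComplexShape.up ℤ) 0 X).inv ≫ f.f 0

/-- A map out of a single complex. -/
noncomputable def ofVal (φ : X ⟶ K.X 0) (h : φ ≫ K.d 0 1 = 0) : (CochainComplex.singleFunctor C 0).obj X ⟶ K :=
  HomologicalComplex.mkHomFromSingle φ (fun k hk => by obtain rfl : 0 + 1 = k := hk; exact h)

lemma val_ofVal (φ : X ⟶ K.X 0) (h : φ ≫ K.d 0 1 = 0) : val (ofVal φ h) = φ := by
  simp [val, ofVal, HomologicalComplex.mkHomFromSingle, HomologicalComplex.singleObjXSelf]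

lemma val_comp (f : (CochainComplex.singleFunctor C 0).obj X ⟶ K) (g : K ⟶ L) : val (f ≫ g) = val f ≫ g.f 0 :=
  (Category.assoc _ _ _).symm

lemma val_map_comp (u : X ⟶ Y) (f : (CochainComplex.singleFunctor C 0).obj Y ⟶ K) :
    val ((CochainComplex.singleFunctor C 0).map u ≫ f) = u ≫ val f := by
  simp [val, CochainComplex.singleFunctor, CochainComplex.singleFunctors, HomologicalComplex.single_map_f_self]

lemma val_ext {f g : (CochainComplex.singleFunctor C 0).obj X ⟶ K} (h : val f = val g) : f = g :=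
  HomologicalComplex.from_single_hom_ext ((cancel_epi _).1 h)

lemma val_d (f : (CochainComplex.singleFunctor C 0).obj X ⟶ K) : val f ≫ K.d 0 1 = 0 := by
  have e : ((CochainComplex.singleFunctor C 0).obj X).d 0 1 = 0 :=
    HomologicalComplex.single_obj_d (ComplexShape.up ℤ) _ _ _ _
  exact (Category.assoc _ _ _).trans ((congrArg (_ ≫ ·) ((f.comm 0 1).trans (by rw [e, zero_comp]))).trans comp_zero)

lemma val_homotopy {f g : (CochainComplex.singleFunctor C 0).obj X ⟶ K} (H : Homotopy f g) :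
    ∃ h : X ⟶ K.X (-1), val f = h ≫ K.d (-1) 0 + val g := by
  have e : ((CochainComplex.singleFunctor C 0).obj X).d 0 1 = 0 :=
    HomologicalComplex.single_obj_d (ComplexShape.up ℤ) _ _ _ _
  refine ⟨(HomologicalComplex.singleObjXSelf (ComplexShape.up ℤ) 0 X).inv ≫ H.hom 0 (-1), ?_⟩
  have e₀ := H.comm 0
  rw [dNext_eq H.hom (show (ComplexShape.up ℤ).Rel (0 : ℤ) 1 from rfl),
    prevD_eq H.hom (show (ComplexShape.up ℤ).Rel (-1 : ℤ) 0 from rfl), e, zero_comp, zero_add] at e₀
  exact (congrArg (_ ≫ ·) e₀).trans ((Preadditive.comp_add _ _ _ _ _ _).trans (congrArg (· + _) (Category.assoc _ _ _).symm))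

end Single

variable {A : Type u} [Category.{v} A] [Abelian A]

lemma exists_desc_of_levels {S : ShortComplex (FilD.FilF A)}
    (hS : ∀ p : ℤ, (S.map ((FilD.IsFinFil A).ι ⋙ (evaluation ℤᵒᵖ A).obj (op p))).ShortExact)
    {W : FilD.FilF A} (t : S.X₂ ⟶ W) (ht : S.f ≫ t = 0) : ∃ e : S.X₃ ⟶ W, S.g ≫ e = t := by
  have he : ∀ p : ℤᵒᵖ, Epi (S.g.hom.app p) := fun p => (hS p.unop).epi_g
  have hd : ∀ p : ℤᵒᵖ, ∃ e : S.X₃.obj.obj p ⟶ W.obj.obj p, S.g.hom.app p ≫ e = t.hom.app p := fun p => by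
    have h := (hS p.unop).gIsCokernel
    have w : S.f.hom.app p ≫ t.hom.app p = 0 := by
      rw [← NatTrans.comp_app, show S.f.hom ≫ t.hom = 0 from congrArg InducedCategory.Hom.hom ht]
      rfl
    obtain ⟨e, he⟩ := CokernelCofork.IsColimit.desc' h (t.hom.app p) w
    exact ⟨e, he⟩
  choose e hg using hd
  refine ⟨ObjectProperty.homMk { app := e, naturality := fun p q k => ?_ }, InducedCategory.hom_ext (by ext p; exact hg p)⟩
  haveI := he p
  rw [← cancel_epi (S.g.hom.app p), ← Category.assoc, ← S.g.hom.naturality, Category.assoc, hg q, t.hom.naturality,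
    reassoc_of% (hg p)]

theorem exists_horseshoe (S : ShortComplex (FilD.FilF A))
    (hS : ∀ p : ℤ, (S.map ((FilD.IsFinFil A).ι ⋙ (evaluation ℤᵒᵖ A).obj (op p))).ShortExact)
    (I : CochainComplex (FilD.FilF A) ℤ) [I.IsStrictlyGE 0] (hI : ∀ n, FilD.IsFilteredInjective (I.X n))
    (a : (CochainComplex.singleFunctor (FilD.FilF A) 0).obj S.X₁ ⟶ I)
    (J : CochainComplex (FilD.FilF A) ℤ)
    (c : (CochainComplex.singleFunctor (FilD.FilF A) 0).obj S.X₃ ⟶ J) (hc : FilD.IsFilteredQuasiIso c) :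
    ∃ (M : CochainComplex (FilD.FilF A) ℤ) (α : I ⟶ M) (β : M ⟶ J) (b : (CochainComplex.singleFunctor (FilD.FilF A) 0).obj S.X₂ ⟶ M),
      (∀ n, ∃ (r : M.X n ⟶ I.X n) (s : J.X n ⟶ M.X n), α.f n ≫ r = 𝟙 _ ∧ s ≫ β.f n = 𝟙 _ ∧ α.f n ≫ β.f n = 0 ∧
        r ≫ α.f n + β.f n ≫ s = 𝟙 _) ∧
      a ≫ α = (CochainComplex.singleFunctor (FilD.FilF A) 0).map S.f ≫ b ∧ b ≫ β = (CochainComplex.singleFunctor (FilD.FilF A) 0).map S.g ≫ c := by
  let q := HomotopyCategory.quotient (FilD.FilF A) (ComplexShape.up ℤ)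
  haveI : ∀ p : ℤᵒᵖ, Mono (S.f.hom.app p) := fun p => (hS p.unop).mono_f
  haveI : ∀ p : ℤᵒᵖ, Epi (S.g.hom.app p) := fun p => (hS p.unop).epi_g
  haveI : Mono S.f.hom := NatTrans.mono_of_mono_app _
  haveI : Epi S.g.hom := NatTrans.epi_of_epi_app _
  haveI : Mono S.f := (FilD.IsFinFil A).ι.mono_of_mono_map (show Mono S.f.hom from inferInstance)
  haveI : Epi S.g := (FilD.IsFinFil A).ι.epi_of_epi_map (show Epi S.g.hom from inferInstance)
  have hfs : StrictUp S.f.hom := by
    intro p q' h T x y hxy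
    have w : S.f.hom ≫ S.g.hom = 0 := congrArg InducedCategory.Hom.hom S.zero
    have hy : y ≫ S.g.hom.app (op q') = 0 := by
      rw [← cancel_mono (st S.X₃.obj h), zero_comp, Category.assoc, ← st_nat, ← reassoc_of% hxy, ← NatTrans.comp_app, w]
      simp
    exact (hS q').exact.exact_up_to_refinements y hy
  obtain ⟨l, hl⟩ := exists_extend S.f hfs (hI 0) (val a)
  obtain ⟨ε, hε⟩ := exists_desc_of_levels hS (l ≫ I.d 0 1) (by rw [reassoc_of% hl, val_d])
  have hεd : ε ≫ I.d 1 2 = 0 := by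
    rw [← cancel_epi S.g, reassoc_of% hε, I.d_comp_d, comp_zero, comp_zero]
  -- the class of the extension
  have hd1 : ∀ i j : ℤ, (I⟦(1 : ℤ)⟧).d i j = -(I.d (i + 1) (j + 1)) := fun i j => by
    simp [CochainComplex.shiftFunctor_obj_d']
  let ψ : (CochainComplex.singleFunctor (FilD.FilF A) 0).obj S.X₃ ⟶ I⟦(1 : ℤ)⟧ :=
    ofVal (K := I⟦(1 : ℤ)⟧) (-ε : S.X₃ ⟶ I.X (0 + 1)) (by
      rw [hd1]
      exact (Preadditive.neg_comp_neg _ _).trans hεd)
  haveI : (I⟦(1 : ℤ)⟧).IsStrictlyGE (-1) := I.isStrictlyGE_shift 0 1 (-1) (by omega)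
  obtain ⟨δ', hδ'⟩ := (bijective_precomp (I⟦(1 : ℤ)⟧) (-1) (fun n => hI (n + 1)) c hc).2 (q.map ψ)
  obtain ⟨δ, rfl⟩ := q.map_surjective δ'
  obtain ⟨h₁, hh₁⟩ := val_homotopy (HomotopyCategory.homotopyOfEq _ _ ((q.map_comp c δ).trans hδ'))
  let h₀ : S.X₃ ⟶ I.X 0 := h₁
  let δf : ∀ n, J.X n ⟶ I.X (n + 1) := fun n => δ.f n
  have hH : val c ≫ δf 0 = -(h₀ ≫ I.d 0 1) - ε := by
    rw [val_comp, val_ofVal, hd1] at hh₁
    refine hh₁.trans ?_
    rw [sub_eq_add_neg]
    exact congrArg (· + (-ε)) (Preadditive.comp_neg _ _)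
  have hδ : ∀ n, δf n ≫ I.d (n + 1) (n + 1 + 1) + J.d n (n + 1) ≫ δf (n + 1) = 0 := by
    intro n
    have e := δ.comm n (n + 1)
    rw [hd1] at e
    have e' : J.d n (n + 1) ≫ δf (n + 1) = -(δf n ≫ I.d (n + 1) (n + 1 + 1)) :=
      e.symm.trans (Preadditive.comp_neg _ _)
    rw [e', add_neg_cancel]
  let M : CochainComplex (FilD.FilF A) ℤ := CochainComplex.of (fun n => I.X n ⊞ J.X n)
    (fun n => biprod.lift (biprod.desc (I.d n (n + 1)) (δf n)) (biprod.snd ≫ J.d n (n + 1)))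
    (fun n => by
      apply biprod.hom_ext
      · apply biprod.hom_ext'
        · simp
        · simpa using hδ n
      · simp)
  let α : I ⟶ M :=
    { f := fun n => biprod.inl
      comm' := fun i j h => by
        obtain rfl : i + 1 = j := h
        apply biprod.hom_ext <;> simp [M] }
  let β : M ⟶ J :=
    { f := fun n => biprod.snd
      comm' := fun i j h => by
        obtain rfl : i + 1 = j := h
        simp [M] }
  have hMd : M.d 0 1 = biprod.lift (biprod.desc (I.d 0 1) (δf 0)) (biprod.snd ≫ J.d 0 1) :=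
    CochainComplex.of_d (fun n => I.X n ⊞ J.X n) (fun n => biprod.lift (biprod.desc (I.d n (n + 1)) (δf n)) (biprod.snd ≫ J.d n (n + 1))) (0 : ℤ)
  let b : (CochainComplex.singleFunctor (FilD.FilF A) 0).obj S.X₂ ⟶ M :=
    ofVal (biprod.lift (l + S.g ≫ h₀) (S.g ≫ val c)) (by
      rw [hMd]
      apply biprod.hom_ext
      · rw [Category.assoc, zero_comp]
        erw [biprod.lift_fst, biprod.lift_desc]
        rw [Preadditive.add_comp, Category.assoc, Category.assoc, hH, ← hε]
        simp only [Preadditive.comp_sub, Preadditive.comp_neg]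
        abel
      · rw [Category.assoc, zero_comp]
        erw [biprod.lift_snd, biprod.lift_snd_assoc]
        rw [Category.assoc, val_d, comp_zero])
  refine ⟨M, α, β, b, fun n => ⟨biprod.fst, biprod.inr, biprod.inl_fst, biprod.inr_snd, biprod.inl_snd, biprod.total⟩, ?_, ?_⟩
  · refine val_ext ?_
    rw [val_comp, val_map_comp, val_ofVal]
    apply biprod.hom_ext
    · simp [α, hl, reassoc_of% S.zero]
    · simp [α, reassoc_of% S.zero]
  · refine val_ext ?_
    rw [val_comp, val_map_comp, val_ofVal]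
    exact biprod.lift_snd _ _

end Groth.Agent.H16Derived.FilLib
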