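import Groth.Agent.H16Derived.FilD.Homotopy

/-!
# Lifting maps to resolutions by filtered injectives
-/

set_option autoImplicit false
set_option linter.style.haveILetI false

universe v u

open CategoryTheory CategoryTheory.Limits Opposite

namespace Groth.Agent.H16Derived.FilLib

lemma eq_of_homotopy_single {C : Type u} [Category.{v} C] [Preadditive C] [HasZeroObject C] {X : C}
    {J : CochainComplex C ℤ} [J.IsStrictlyGE 0]
    {f g : (CochainComplex.singleFunctor C 0).obj X ⟶ J} (H : Homotopy f g) : f = g := by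
  ext n
  rw [H.comm n]
  by_cases hn : n = 0
  · subst hn
    have h₁ : ∀ j, ((CochainComplex.singleFunctor C 0).obj X).d 0 j = 0 := fun j => by simp [CochainComplex.singleFunctor, CochainComplex.singleFunctors]; rfl
    rw [dNext_eq H.hom (show (ComplexShape.up ℤ).Rel (0 : ℤ) 1 from rfl),
      prevD_eq H.hom (show (ComplexShape.up ℤ).Rel (-1 : ℤ) 0 from rfl), h₁,
      (J.isZero_of_isStrictlyGE 0 (-1) (by omega)).eq_of_tgt (H.hom 0 (-1)) 0]
    simp
  · exact (HomologicalComplex.isZero_single_obj_X (ComplexShape.up ℤ) 0 X n hn).eq_of_src _ _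

variable {A : Type u} [Category.{v} A] [Abelian A]

theorem exists_lift_single {X : FilD.FilF A}
    (I : CochainComplex (FilD.FilF A) ℤ)
    (a : (CochainComplex.singleFunctor (FilD.FilF A) 0).obj X ⟶ I) (ha : FilD.IsFilteredQuasiIso a)
    (J : CochainComplex (FilD.FilF A) ℤ) [J.IsStrictlyGE 0] (hJ : ∀ n, FilD.IsFilteredInjective (J.X n))
    (b : (CochainComplex.singleFunctor (FilD.FilF A) 0).obj X ⟶ J) : ∃ φ : I ⟶ J, a ≫ φ = b := by
  let q := HomotopyCategory.quotient (FilD.FilF A) (ComplexShape.up ℤ)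
  obtain ⟨β, hβ⟩ := (bijective_precomp J 0 hJ a ha).2 (q.map b)
  obtain ⟨φ, rfl⟩ := q.map_surjective β
  exact ⟨φ, eq_of_homotopy_single (HomotopyCategory.homotopyOfEq _ _ ((q.map_comp a φ).trans hβ))⟩

end Groth.Agent.H16Derived.FilLib
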