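import Groth.Agent.H16Derived.FilD.Homotopy

/-!
# Resolutions by filtered injectives
-/

set_option autoImplicit false
set_option linter.style.haveILetI false

universe v u

open CategoryTheory CategoryTheory.Limits Opposite

namespace Groth.Agent.H16Derived.FilLib

variable {A : Type u} [Category.{v} A] [Abelian A]

/-- Two consecutive terms of a resolution of `K`. -/
structure ResStage (K : CochainComplex (FilD.FilF A) ℤ) (n : ℤ) where
  Ip : FilD.FilF A
  I : FilD.FilF A
  φp : K.X n ⟶ Ip
  φ : K.X (n + 1) ⟶ I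
  d : Ip ⟶ I

namespace ResStage

variable {K : CochainComplex (FilD.FilF A) ℤ} {n : ℤ}

/-- The differential of the cone. -/
noncomputable def dT (s : ResStage K n) : (K.X (n + 1) ⊞ s.Ip) ⟶ (K.X (n + 1 + 1) ⊞ s.I) :=
  biprod.lift (biprod.fst ≫ (-K.d (n + 1) (n + 1 + 1))) (biprod.desc s.φ s.d)

lemma dT_fst (s : ResStage K n) : s.dT ≫ biprod.fst = biprod.fst ≫ (-K.d (n + 1) (n + 1 + 1)) := biprod.lift_fst _ _

lemma dT_snd (s : ResStage K n) : s.dT ≫ biprod.snd = biprod.desc s.φ s.d := biprod.lift_snd _ _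

lemma inr_dT (s : ResStage K n) : biprod.inr ≫ s.dT = s.d ≫ biprod.inr := by
  apply biprod.hom_ext <;> simp [dT]

lemma inl_dT (s : ResStage K n) :
    biprod.inl ≫ s.dT = (-K.d (n + 1) (n + 1 + 1)) ≫ biprod.inl + s.φ ≫ biprod.inr := by
  apply biprod.hom_ext <;> simp [dT]

/-- The requirements on a stage. -/
structure Good (s : ResStage K n) : Prop where
  inj_p : FilD.IsFilteredInjective s.Ip
  inj : FilD.IsFilteredInjective s.I
  comm : s.φp ≫ s.d = K.d n (n + 1) ≫ s.φ
  strict : StrictUp s.dT.hom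

/-- Compatibility of consecutive stages. -/
def Link (s : ResStage K n) (s' : ResStage K (n + 1)) : Prop :=
  ∃ e : s.I ⟶ s'.Ip, IsIso e ∧ s.φ ≫ e = s'.φp ∧
    ∃ w : (s.dT ≫ biprod.map (𝟙 _) e) ≫ s'.dT = 0,
      ∀ p : ℤ, ((ShortComplex.mk _ _ w).map (FilD.grF A p)).Exact

end ResStage

variable (K : CochainComplex (FilD.FilF A) ℤ)

open ZeroObject in
/-- The zero stage. -/
noncomputable def zeroStage (n : ℤ) : ResStage K n := ⟨0, 0, 0, 0, 0⟩

lemma isFilteredInjective_of_isZero {X : FilD.FilF A} (h : IsZero X) : FilD.IsFilteredInjective X :=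
  fun p => ((FilD.grF A p).map_isZero h).injective

lemma isZero_T (n : ℤ) (h : IsZero (K.X n)) {Y : FilD.FilF A} (hY : IsZero Y) : IsZero (K.X n ⊞ Y) :=
  (IsZero.iff_id_eq_zero _).2 (biprod.hom_ext _ _ (h.eq_of_tgt _ _) (hY.eq_of_tgt _ _))

lemma good_zeroStage (a : ℤ) [K.IsStrictlyGE a] (n : ℤ) (hn : n + 1 < a) : (zeroStage K n).Good where
  inj_p := isFilteredInjective_of_isZero (isZero_zero _)
  inj := isFilteredInjective_of_isZero (isZero_zero _)
  comm := (isZero_zero _).eq_of_tgt _ _
  strict := by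
    rw [(isZero_T K _ (K.isZero_of_isStrictlyGE a (n + 1) hn) (isZero_zero _)).eq_of_src (zeroStage K n).dT 0]
    exact strictUp_zero fun hh => mono_st _ hh

lemma exists_next [EnoughInjectives A] {n : ℤ} (s : ResStage K n) (hs : s.Good) :
    ∃ s' : ResStage K (n + 1), s'.Good ∧ s.Link s' := by
  obtain ⟨J, v, hJ, hv, hvs⟩ := exists_strictMono (coker s.dT hs.strict)
  let π := cokerπ s.dT hs.strict
  let s' : ResStage K (n + 1) := ⟨s.I, J, s.φ, biprod.inl ≫ π ≫ v, biprod.inr ≫ π ≫ v⟩
  have e : biprod.desc s'.φ s'.d = π ≫ v := by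
    apply biprod.hom_ext' <;> simp [s']
  have hπ : s.dT ≫ π = 0 := coker_condition _ _
  have w : s.dT ≫ s'.dT = 0 := by
    apply biprod.hom_ext
    · rw [zero_comp, Category.assoc, s'.dT_fst]
      refine (Category.assoc _ _ _).symm.trans ((congrArg (· ≫ (-K.d (n + 1 + 1) (n + 1 + 1 + 1))) s.dT_fst).trans ?_)
      simp
    · rw [zero_comp, Category.assoc, s'.dT_snd]
      exact (congrArg (s.dT ≫ ·) e).trans (by rw [← Category.assoc, hπ, zero_comp])
  have hex : ∀ p : ℤ, ((ShortComplex.mk _ _ w).map (FilD.grF A p)).Exact := by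
    intro p
    rw [ShortComplex.exact_iff_exact_up_to_refinements]
    intro T (x : T ⟶ (FilD.grF A p).obj ((K.X (n + 1 + 1)) ⊞ s.I)) (hx : x ≫ (FilD.grF A p).map s'.dT = 0)
    haveI : Mono ((FilD.grF A p).map v) := mono_gr_map v hvs p
    refine (exact_gr_coker s.dT hs.strict p).exact_up_to_refinements x ?_
    show x ≫ (FilD.grF A p).map π = 0
    rw [← cancel_mono ((FilD.grF A p).map v), zero_comp, Category.assoc, ← Functor.map_comp]
    refine Eq.trans (congrArg (fun f => x ≫ (FilD.grF A p).map f) (e.symm.trans s'.dT_snd.symm)) ?_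
    rw [Functor.map_comp]
    exact (Category.assoc _ _ _).symm.trans ((congrArg (· ≫ _) hx).trans zero_comp)
  refine ⟨s', ⟨hs.inj, hJ, ?_, ?_⟩, 𝟙 _, inferInstance, Category.comp_id _, ?_⟩
  · have h := congrArg (biprod.inl ≫ ·) (hπ =≫ v)
    simp only [zero_comp, comp_zero, Category.assoc] at h
    rw [← e, ← Category.assoc, s.inl_dT, Preadditive.add_comp, Category.assoc, Category.assoc,
      biprod.inl_desc, biprod.inr_desc, Preadditive.neg_comp, neg_add_eq_zero] at h
    exact h.symm
  · exact (strictUp_of_exact_gr _ _ (congrArg InducedCategory.Hom.hom w) hex).2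
  · have e' : s.dT ≫ biprod.map (𝟙 _) (𝟙 s.I) = s.dT := by
      rw [show biprod.map (𝟙 (K.X (n + 1 + 1))) (𝟙 s.I) = 𝟙 _ from by apply biprod.hom_ext <;> simp, Category.comp_id]
    have key : ∀ f (_ : f = s.dT) (w' : f ≫ s'.dT = 0) (p : ℤ),
        ((ShortComplex.mk f s'.dT w').map (FilD.grF A p)).Exact := by
      rintro f rfl w' p
      exact hex p
    exact ⟨(congrArg (· ≫ s'.dT) e').trans w, key _ e' _⟩

theorem exists_resolution [EnoughInjectives A] (a : ℤ) [K.IsStrictlyGE a] :
    ∃ (I : CochainComplex (FilD.FilF A) ℤ) (φ : K ⟶ I), I.IsStrictlyGE a ∧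
      (∀ n, FilD.IsFilteredInjective (I.X n)) ∧ FilD.IsFilteredQuasiIso φ := by
  classical
  choose next hnext using @exists_next A _ _ K _
  let step : ∀ n, ResStage K n → ResStage K (n + 1) := fun n s => if h : s.Good then next s h else zeroStage K (n + 1)
  let seq := intSeq (a - 1) (zeroStage K) step
  have hgood : ∀ n, (seq n).Good := by
    suffices ∀ (k : ℕ) (n : ℤ), n < a - 1 + k → (seq n).Good from fun n => this (n - a + 2).toNat n (by omega)
    intro k
    induction k with
    | zero =>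
      intro n hn
      simp only [seq, intSeq_of_lt (a - 1) (zeroStage K) step (show n < a - 1 by omega)]
      exact good_zeroStage K a n (by omega)
    | succ k ih =>
      intro n hn
      by_cases hna : n < a - 1
      · simp only [seq, intSeq_of_lt (a - 1) (zeroStage K) step hna]
        exact good_zeroStage K a n (by omega)
      · obtain ⟨m, rfl⟩ : ∃ m, n = m + 1 := ⟨n - 1, by omega⟩
        simp only [seq]
        rw [intSeq_succ (a - 1) (zeroStage K) step (by omega)]
        have hm : (intSeq (a - 1) (zeroStage K) step m).Good := ih m (by omega)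
        simp only [step, dif_pos hm]
        exact (hnext _ hm).1
  have hlink : ∀ n, (seq n).Link (seq (n + 1)) := by
    intro n
    by_cases hn : a - 1 ≤ n + 1
    · have e : seq (n + 1) = next (seq n) (hgood n) :=
        (intSeq_succ (a - 1) (zeroStage K) step hn).trans (dif_pos (hgood n))
      rw [e]
      exact (hnext _ (hgood n)).2
    · simp only [seq, intSeq_of_lt (a - 1) (zeroStage K) step (show n < a - 1 by omega),
        intSeq_of_lt (a - 1) (zeroStage K) step (show n + 1 < a - 1 by omega)]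
      refine ⟨0, ⟨0, (isZero_zero _).eq_of_src _ _, (isZero_zero _).eq_of_src _ _⟩, (isZero_zero _).eq_of_tgt _ _, ?_⟩
      refine ⟨(isZero_T K _ (K.isZero_of_isStrictlyGE a (n + 1) (by omega)) (isZero_zero _)).eq_of_src _ _, fun p => ?_⟩
      exact ShortComplex.exact_of_isZero_X₂ _
        ((FilD.grF A p).map_isZero (isZero_T K _ (K.isZero_of_isStrictlyGE a (n + 1 + 1) (by omega)) (isZero_zero _)))
  choose e he hφ hw hex using hlink
  have hd : ∀ n, ((seq n).d ≫ e n) ≫ (seq (n + 1)).d = 0 := by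
    intro n
    have := congrArg (fun f => biprod.inr ≫ f ≫ biprod.snd) (hw n)
    simp only [Category.assoc, zero_comp, comp_zero, ResStage.dT_snd] at this
    rw [← Category.assoc biprod.inr, ResStage.inr_dT, Category.assoc, biprod.inr_map_assoc, biprod.inr_desc] at this
    rwa [Category.assoc]
  let I : CochainComplex (FilD.FilF A) ℤ := CochainComplex.of (fun n => (seq n).Ip) (fun n => (seq n).d ≫ e n)
    (fun n => by rw [← Category.assoc, hd, zero_comp])
  have hId : ∀ n, I.d n (n + 1) = (seq n).d ≫ e n := fun n => by simp [I]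
  let φ : K ⟶ I :=
    { f := fun n => (seq n).φp
      comm' := fun i j h => by
        obtain rfl : i + 1 = j := h
        rw [hId, ← hφ i]
        exact (Category.assoc _ _ _).symm.trans ((congrArg (· ≫ e i) (hgood i).comm).trans (Category.assoc _ _ _)) }
  refine ⟨I, φ, ?_, fun n => (hgood n).inj_p, ?_⟩
  · rw [CochainComplex.isStrictlyGE_iff]
    intro n hn
    show IsZero (seq n).Ip
    by_cases h : n < a - 1
    · simp only [seq, intSeq_of_lt (a - 1) (zeroStage K) step h]
      exact isZero_zero _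
    · obtain ⟨m, rfl⟩ : ∃ m, n = m + 1 := ⟨n - 1, by omega⟩
      haveI := he m
      refine IsZero.of_iso ?_ (asIso (e m)).symm
      simp only [seq, intSeq_of_lt (a - 1) (zeroStage K) step (show m < a - 1 by omega)]
      exact isZero_zero _
  rw [isFilteredQuasiIso_iff_acyclic_cone]
  let θ : ∀ n, (CochainComplex.mappingCone φ).X n ≅ K.X (n + 1) ⊞ (seq n).Ip := fun n =>
    { hom := biprod.lift ((CochainComplex.mappingCone.fst φ).1.v n (n + 1) rfl)
        ((CochainComplex.mappingCone.snd φ).v n n (add_zero n))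
      inv := biprod.desc ((CochainComplex.mappingCone.inl φ).v (n + 1) n (by omega)) ((CochainComplex.mappingCone.inr φ).f n)
      hom_inv_id := by
        rw [biprod.lift_desc]
        exact (CochainComplex.mappingCone.id_X φ n (n + 1) rfl)
      inv_hom_id := by
        apply biprod.hom_ext <;> apply biprod.hom_ext' <;> simp [φ, I] }
  have hθ : ∀ n, (θ n).hom ≫ ((seq n).dT ≫ biprod.map (𝟙 _) (e n)) =
      (CochainComplex.mappingCone φ).d n (n + 1) ≫ (θ (n + 1)).hom := by
    intro n
    apply biprod.hom_ext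
    · simp [θ, ResStage.dT, CochainComplex.mappingCone.d_fst_v φ n (n + 1) (n + 1 + 1) rfl rfl]
    · simp [θ, ResStage.dT, CochainComplex.mappingCone.d_snd_v φ n (n + 1) rfl, biprod.lift_desc_assoc, hId, φ, hφ]
  intro p m
  obtain ⟨n, rfl⟩ : ∃ n, m = n + 1 := ⟨m - 1, by omega⟩
  rw [HomologicalComplex.exactAt_iff' _ n (n + 1) (n + 1 + 1) (by simp) (by simp)]
  let G := FilD.grF A p
  refine ShortComplex.exact_of_iso ?_ (hex n p)
  refine ShortComplex.isoMk (G.mapIso (θ n).symm) (G.mapIso (θ (n + 1)).symm)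
    (G.mapIso ((biprod.mapIso (Iso.refl _) (haveI := he (n + 1); asIso (e (n + 1)))) ≪≫ (θ (n + 1 + 1)).symm)) ?_ ?_
  · show G.map (θ n).inv ≫ G.map _ = G.map _ ≫ G.map (θ (n + 1)).inv
    rw [← Functor.map_comp, ← Functor.map_comp]
    exact congrArg G.map ((Iso.inv_comp_eq _).2 (by rw [← Category.assoc, hθ n]; simp))
  · show G.map (θ (n + 1)).inv ≫ G.map _ = G.map (seq (n + 1)).dT ≫ G.map (_ ≫ _)
    rw [← Functor.map_comp, ← Functor.map_comp]
    refine congrArg G.map ((Iso.inv_comp_eq _).2 ?_)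
    have := hθ (n + 1) =≫ (θ (n + 1 + 1)).inv
    simp only [Category.assoc, Iso.hom_inv_id, Category.comp_id] at this
    exact this.symm

/-- A bounded below complex maps to filtered injectives by a filtered quasi-isomorphism with strict
monomorphisms as components. -/
theorem exists_resolution_strictMono [EnoughInjectives A] (a : ℤ) [K.IsStrictlyGE a] :
    ∃ (I : CochainComplex (FilD.FilF A) ℤ) (a' : ℤ) (φ : K ⟶ I), I.IsStrictlyGE a' ∧
      (∀ n, FilD.IsFilteredInjective (I.X n)) ∧ FilD.IsFilteredQuasiIso φ ∧ ∀ n, Mono (φ.f n) ∧ StrictUp (φ.f n).hom := by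
  obtain ⟨I, φ, hI, hinj, hφ⟩ := exists_resolution K a
  have hemb : ∀ n, ∃ (J : FilD.FilF A) (v : K.X n ⟶ J),
      FilD.IsFilteredInjective J ∧ Mono v ∧ StrictUp v.hom ∧ (n < a → IsZero J) := by
    intro n
    by_cases h : n < a
    · refine ⟨K.X n, 𝟙 _, isFilteredInjective_of_isZero (K.isZero_of_isStrictlyGE a n h), inferInstance,
        fun p q h T x y hxy => ?_, fun _ => K.isZero_of_isStrictlyGE a n h⟩
      exact ⟨T, 𝟙 T, inferInstance, y, by simp⟩
    · obtain ⟨J, v, h₁, h₂, h₃⟩ := exists_strictMono (K.X n)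
      exact ⟨J, v, h₁, h₂, h₃, fun h' => absurd h' h⟩
  choose J v hJ hv hvs hJ0 using hemb
  let X : ℤ → FilD.FilF A := fun n => I.X n ⊞ (J n ⊞ J (n + 1))
  let d : ∀ n, X n ⟶ X (n + 1) := fun n =>
    biprod.map (I.d n (n + 1)) ((biprod.snd : J n ⊞ J (n + 1) ⟶ J (n + 1)) ≫ biprod.inl)
  let I' : CochainComplex (FilD.FilF A) ℤ := CochainComplex.of X d (fun n => by
    apply biprod.hom_ext <;> simp [d])
  have hd : ∀ n, I'.d n (n + 1) = d n := fun n => by simp [I']
  let φ' : K ⟶ I' :=
    { f := fun n => biprod.lift (φ.f n) (biprod.lift (v n) (K.d n (n + 1) ≫ v (n + 1)))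
      comm' := fun i j h => by
        obtain rfl : i + 1 = j := h
        rw [hd]
        apply biprod.hom_ext
        · simp [d]
        · apply biprod.hom_ext <;> simp [d] }
  let pr : I' ⟶ I :=
    { f := fun n => biprod.fst
      comm' := fun i j h => by
        obtain rfl : i + 1 = j := h
        rw [hd]
        simp [d] }
  let se : I ⟶ I' :=
    { f := fun n => biprod.inl
      comm' := fun i j h => by
        obtain rfl : i + 1 = j := h
        rw [hd]
        simp [d] }
  let h : ∀ i j : ℤ, I'.X i ⟶ I'.X j := fun i j =>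
    if e : j + 1 = i then
      (biprod.snd : X i ⟶ J i ⊞ J (i + 1)) ≫ biprod.fst ≫ eqToHom (congrArg J e.symm) ≫ biprod.inr ≫
        (biprod.inr : J j ⊞ J (j + 1) ⟶ X j)
    else 0
  have H : Homotopy (𝟙 I') (pr ≫ se) :=
    { hom := h
      zero := fun i j e => dif_neg e
      comm := fun i => by
        obtain ⟨n, rfl⟩ : ∃ n, i = n + 1 := ⟨i - 1, by omega⟩
        rw [dNext_eq h (show (ComplexShape.up ℤ).Rel (n + 1) (n + 1 + 1) from rfl),
          prevD_eq h (show (ComplexShape.up ℤ).Rel n (n + 1) from rfl), hd, hd]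
        apply biprod.hom_ext
        · simp [h, d, pr, se, X, I']
        · apply biprod.hom_ext' <;> apply biprod.hom_ext <;> simp [h, d, pr, se, X, I'] }
  let E : HomotopyEquiv I' I :=
    { hom := pr
      inv := se
      homotopyHomInvId := H.symm
      homotopyInvHomId := Homotopy.ofEq (by ext n; simp [pr, se]) }
  refine ⟨I', a - 1, φ', ?_, fun n p => ?_, fun p => ?_, fun n => ?_⟩
  · rw [CochainComplex.isStrictlyGE_iff]
    intro n hn
    exact (IsZero.iff_id_eq_zero _).2 (biprod.hom_ext _ _ ((I.isZero_of_isStrictlyGE a n (by omega)).eq_of_tgt _ _)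
      (biprod.hom_ext _ _ ((hJ0 n (by omega)).eq_of_tgt _ _) ((hJ0 (n + 1) (by omega)).eq_of_tgt _ _)))
  · haveI := hinj n p
    haveI := hJ n p
    haveI := hJ (n + 1) p
    haveI : PreservesBinaryBiproducts (FilD.grF A p) := preservesBinaryBiproducts_of_preservesBiproducts _
    exact Injective.of_iso ((FilD.grF A p).mapBiprod _ _ ≪≫ biprod.mapIso (Iso.refl _) ((FilD.grF A p).mapBiprod _ _)).symm
      inferInstance
  · haveI := hφ p
    haveI : QuasiIso ((FilD.grCx p).map pr) :=
      inferInstanceAs (QuasiIso ((FilD.grF A p).mapHomotopyEquiv E).hom)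
    haveI : QuasiIso ((FilD.grCx p).map φ' ≫ (FilD.grCx p).map pr) := by
      rw [← Functor.map_comp, show φ' ≫ pr = φ from by ext n; simp [φ', pr]]
      infer_instance
    exact quasiIso_of_comp_right ((FilD.grCx p).map φ') ((FilD.grCx p).map pr)
  · haveI := hv n
    let π : I'.X n ⟶ J n := (biprod.snd : X n ⟶ J n ⊞ J (n + 1)) ≫ biprod.fst
    have e : φ'.f n ≫ π = v n := by simp [φ', π, X]
    haveI : Mono (φ'.f n ≫ π) := e ▸ hv n
    refine ⟨mono_of_mono (φ'.f n) π, strictUp_of_comp _ π.hom ?_ ?_ fun hh => mono_st _ hh⟩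
    · rw [show (φ'.f n).hom ≫ π.hom = (v n).hom from congrArg InducedCategory.Hom.hom e]
      exact hvs n
    · intro p
      rw [show (φ'.f n).hom ≫ π.hom = (v n).hom from congrArg InducedCategory.Hom.hom e]
      exact mono_app_of_mono (v n) p

end Groth.Agent.H16Derived.FilLib
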