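import Groth.Agent.H16Derived.FilD.Homotopy
import Mathlib.Algebra.Homology.Refinements

/-!
# Truncations of filtered complexes
-/

set_option autoImplicit false
set_option linter.style.haveILetI false

universe v u

open CategoryTheory CategoryTheory.Limits Opposite

namespace Groth.Agent.H16Derived.FilLib

variable {A : Type u} [Category.{v} A] [Abelian A]

lemma coker_hom_ext {X Y Z : FilD.FilF A} (φ : X ⟶ Y) (hφ : StrictUp φ.hom) {f g : coker φ hφ ⟶ Z}
    (h : cokerπ φ hφ ≫ f = cokerπ φ hφ ≫ g) : f = g :=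
  InducedCategory.hom_ext ((cancel_epi (cokernel.π φ.hom)).1 (congrArg InducedCategory.Hom.hom h))

/-- Factor through the cokernel of a strict map. -/
noncomputable def cokerDesc {X Y Z : FilD.FilF A} (φ : X ⟶ Y) (hφ : StrictUp φ.hom) (f : Y ⟶ Z) (h : φ ≫ f = 0) :
    coker φ hφ ⟶ Z :=
  ObjectProperty.homMk (cokernel.desc φ.hom f.hom (congrArg InducedCategory.Hom.hom h))

@[reassoc (attr := simp)]
lemma cokerπ_desc {X Y Z : FilD.FilF A} (φ : X ⟶ Y) (hφ : StrictUp φ.hom) (f : Y ⟶ Z) (h : φ ≫ f = 0) :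
    cokerπ φ hφ ≫ cokerDesc φ hφ f h = f :=
  InducedCategory.hom_ext (cokernel.π_desc _ _ _)

lemma strictUp_of_retraction {X Y : FilD.FilF A} (φ : X ⟶ Y) (r : Y ⟶ X) (hr : φ ≫ r = 𝟙 X) :
    StrictUp φ.hom := by
  intro p q h T x y hxy
  have hx : (y ≫ r.hom.app (op q)) ≫ st X.obj h = x := by
    rw [Category.assoc, ← st_nat, ← reassoc_of% hxy, ← NatTrans.comp_app,
      show φ.hom ≫ r.hom = 𝟙 X.obj from congrArg InducedCategory.Hom.hom hr]
    simp
  refine ⟨T, 𝟙 T, inferInstance, y ≫ r.hom.app (op q), ?_⟩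
  rw [← cancel_mono (st Y.obj h), Category.id_comp, Category.assoc (y ≫ _), ← st_nat, ← Category.assoc _ (st X.obj h), hx, hxy]

lemma strictUp_comp_retraction {X Y Z : FilD.FilF A} {φ : X ⟶ Y} (hφ : StrictUp φ.hom) (i : Y ⟶ Z) (r : Z ⟶ Y)
    (hr : i ≫ r = 𝟙 Y) : StrictUp (φ ≫ i).hom := by
  intro p q h T x y hxy
  have hxy' : x ≫ φ.hom.app (op p) ≫ i.hom.app (op p) = y ≫ st Z.obj h := hxy
  have e : i.hom.app (op p) ≫ r.hom.app (op p) = 𝟙 _ := by
    rw [← NatTrans.comp_app, show i.hom ≫ r.hom = 𝟙 Y.obj from congrArg InducedCategory.Hom.hom hr]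
    rfl
  have h₁ : x ≫ φ.hom.app (op p) = (y ≫ r.hom.app (op q)) ≫ st Y.obj h := by
    rw [Category.assoc, ← st_nat, ← reassoc_of% hxy', e, Category.comp_id]
  obtain ⟨T', π, hπ, x', hx'⟩ := hφ p q h T x _ h₁
  refine ⟨T', π, hπ, x', ?_⟩
  show π ≫ y = x' ≫ φ.hom.app (op q) ≫ i.hom.app (op q)
  rw [← cancel_mono (st Z.obj h), Category.assoc, Category.assoc, Category.assoc, ← hxy', ← st_nat, reassoc_of% h₁,
    ← reassoc_of% hx']

variable (K : CochainComplex (FilD.FilF A) ℤ)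

lemma strictUp_d_of_exactAt (i j : ℤ) (hij : i + 1 = j)
    (h : ∀ p, ((FilD.grCx p).obj K).ExactAt i) : StrictUp (K.d i j).hom :=
  (strictUp_of_exact_gr (K.d (i - 1) i).hom (K.d i j).hom (congrArg InducedCategory.Hom.hom (K.d_comp_d _ i j))
    fun p => ((HomologicalComplex.exactAt_iff' ((FilD.grCx p).obj K) (i - 1) i j
      ((ComplexShape.up ℤ).prev_eq' (show i - 1 + 1 = i by omega)) ((ComplexShape.up ℤ).next_eq' hij)) :).1 (h p)).2

theorem exists_truncGE (a : ℤ) (hK : ∀ (p n : ℤ), n < a → IsZero (((FilD.grCx p).obj K).homology n)) :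
    ∃ (L : CochainComplex (FilD.FilF A) ℤ) (φ : K ⟶ L), L.IsStrictlyGE a ∧ FilD.IsFilteredQuasiIso φ := by
  have hex : ∀ (p n : ℤ), n < a → ((FilD.grCx p).obj K).ExactAt n := fun p n h =>
    (HomologicalComplex.exactAt_iff_isZero_homology _ _).2 (hK p n h)
  let w : ∀ n, (K.X n ⊞ K.X (n - 1)) ⟶ K.X n := fun n =>
    biprod.desc (if n < a then 𝟙 _ else 0) (if n ≤ a then K.d (n - 1) n else 0)
  have hw : ∀ n, StrictUp (w n).hom := by
    intro n
    rcases lt_trichotomy n a with h | h | h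
    · exact strictUp_of_section (w n).hom (biprod.inl : K.X n ⟶ _).hom
        (congrArg InducedCategory.Hom.hom (show biprod.inl ≫ w n = 𝟙 _ by simp [w, h]))
    · rw [show w n = biprod.snd ≫ K.d (n - 1) n from by apply biprod.hom_ext' <;> simp [w, h]]
      exact strictUp_epi_comp (strictUp_d_of_exactAt K (n - 1) n (by omega) fun p => hex p _ (by omega))
        (biprod.inr : K.X (n - 1) ⟶ _).hom
        (congrArg InducedCategory.Hom.hom (show (biprod.inr : _ ⟶ K.X n ⊞ K.X (n - 1)) ≫ biprod.snd = 𝟙 _ by simp))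
    · rw [show w n = 0 from by apply biprod.hom_ext' <;> simp [w, not_lt.2 h.le, not_le.2 h]]
      exact strictUp_zero fun hh => mono_st _ hh
  let q := fun n => cokerπ (w n) (hw n)
  have hwq : ∀ n, w n ≫ q n = 0 := fun n => coker_condition _ _
  have hq₁ : ∀ n, n < a → q n = 0 := fun n h => by
    simpa [w, h] using congrArg (biprod.inl ≫ ·) (hwq n)
  have hq₂ : ∀ i n, i + 1 = n → n ≤ a → K.d i n ≫ q n = 0 := fun i n e h => by
    obtain rfl : i = n - 1 := by omega
    simpa [w, h] using congrArg (biprod.inr ≫ ·) (hwq n)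
  have hd : ∀ n, w n ≫ K.d n (n + 1) ≫ q (n + 1) = 0 := by
    intro n
    by_cases h : n < a
    · rw [hq₂ n (n + 1) rfl (by omega), comp_zero]
    · apply biprod.hom_ext'
      · simp [w, h]
      · by_cases h' : n ≤ a <;> simp [w, h']
  let L : CochainComplex (FilD.FilF A) ℤ := CochainComplex.of (fun n => coker (w n) (hw n))
    (fun n => cokerDesc (w n) (hw n) (K.d n (n + 1) ≫ q (n + 1)) (hd n))
    (fun n => coker_hom_ext _ _ (by simp [q]))
  let φ : K ⟶ L :=
    { f := q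
      comm' := fun i j h => by
        obtain rfl : i + 1 = j := h
        simp [L, q] }
  have hL : ∀ n, n < a → IsZero (L.X n) := fun n h =>
    (IsZero.iff_id_eq_zero _).2 (coker_hom_ext (w n) (hw n) ((Category.comp_id _).trans ((hq₁ n h).trans comp_zero.symm)))
  refine ⟨L, φ, (CochainComplex.isStrictlyGE_iff _ _).2 hL, fun p => ⟨fun n => ?_⟩⟩
  rw [quasiIsoAt_iff_isIso_homologyMap]
  let G := FilD.grF A p
  let Q := (FilD.grCx p).map φ
  haveI hQ : ∀ m, Epi (Q.f m) := fun m => epi_gr_cokerπ (w m) (hw m) p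
  have hker : ∀ m, a ≤ m → ∀ {T : A} (y : T ⟶ ((FilD.grCx p).obj K).X m), y ≫ Q.f m = 0 →
      ∃ (T' : A) (π : T' ⟶ T) (_ : Epi π) (z : T' ⟶ ((FilD.grCx p).obj K).X (m - 1)),
        π ≫ y = z ≫ (if m ≤ a then ((FilD.grCx p).obj K).d (m - 1) m else 0) := by
    intro m hm T y hy
    obtain ⟨T', π, hπ, (x : T' ⟶ G.obj (K.X m ⊞ K.X (m - 1))), hx⟩ :=
      (exact_gr_coker (w m) (hw m) p).exact_up_to_refinements y hy
    have hx' : π ≫ y = x ≫ G.map (w m) := hx
    refine ⟨T', π, hπ, x ≫ G.map biprod.snd, ?_⟩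
    refine hx'.trans ?_
    rw [show w m = biprod.snd ≫ (if m ≤ a then K.d (m - 1) m else 0) from by
      apply biprod.hom_ext' <;> simp [w, not_lt.2 hm], G.map_comp]
    by_cases h : m ≤ a
    · rw [if_pos h, if_pos h]
      exact (Category.assoc _ _ _).symm
    · rw [if_neg h, if_neg h, Functor.map_zero, comp_zero, comp_zero, comp_zero]
      rfl
  have hpn : (ComplexShape.up ℤ).prev n = n - 1 := (ComplexShape.up ℤ).prev_eq' (show n - 1 + 1 = n by omega)
  have hnn : (ComplexShape.up ℤ).next n = n + 1 := (ComplexShape.up ℤ).next_eq' rfl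
  haveI : Mono (HomologicalComplex.homologyMap Q n) := by
    rw [HomologicalComplex.mono_homologyMap_iff_up_to_refinements Q (n - 1) n (n + 1) hpn hnn]
    intro T x hx y hy
    rcases lt_trichotomy n a with h | h | h
    · exact (((HomologicalComplex.exactAt_iff' ((FilD.grCx p).obj K) (n - 1) n (n + 1) hpn hnn) :).1 (hex p n h)).exact_up_to_refinements x hx
    · have hx0 : x ≫ Q.f n = 0 := by
        have hy0 : y = (0 : T ⟶ ((FilD.grCx p).obj L).X (n - 1)) := (G.map_isZero (hL (n - 1) (by omega))).eq_of_tgt _ _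
        rw [hy0] at hy
        exact hy.trans zero_comp
      obtain ⟨T', π, hπ, z, hz⟩ := hker n (by omega) x hx0
      exact ⟨T', π, hπ, z, hz.trans (congrArg (z ≫ ·) (if_pos h.le))⟩
    · obtain ⟨T', π, hπ, y', hy'⟩ := surjective_up_to_refinements_of_epi (Q.f (n - 1)) y
      obtain ⟨T'', π', hπ', z, hz⟩ := hker n h.le (π ≫ x - y' ≫ ((FilD.grCx p).obj K).d (n - 1) n) (by
        rw [Preadditive.sub_comp, Category.assoc, Category.assoc, hy, ← Q.comm, reassoc_of% hy', sub_self])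
      rw [if_neg (not_le.2 h), comp_zero, Preadditive.comp_sub, sub_eq_zero] at hz
      exact ⟨T'', π' ≫ π, epi_comp' hπ' hπ, π' ≫ y', by rw [Category.assoc, Category.assoc]; exact hz⟩
  haveI : Epi (HomologicalComplex.homologyMap Q n) := by
    rw [HomologicalComplex.epi_homologyMap_iff_up_to_refinements Q (n - 1) n (n + 1) hpn hnn]
    intro T y hy
    by_cases h : n < a
    · exact ⟨T, 𝟙 T, inferInstance, 0, zero_comp, 0, (G.map_isZero (hL n h)).eq_of_tgt _ _⟩
    · obtain ⟨T', π, hπ, x, hx⟩ := surjective_up_to_refinements_of_epi (Q.f n) y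
      obtain ⟨T'', π', hπ', z, hz⟩ := hker (n + 1) (by omega) (x ≫ ((FilD.grCx p).obj K).d n (n + 1)) (by
        rw [Category.assoc, ← Q.comm, ← reassoc_of% hx, hy, comp_zero])
      rw [if_neg (by omega), comp_zero] at hz
      exact ⟨T'', π' ≫ π, epi_comp' hπ' hπ, π' ≫ x, (Category.assoc _ _ _).trans hz, 0, by simp [Category.assoc, hx]⟩
  exact isIso_of_mono_of_epi _

theorem exists_truncLE (b : ℤ) (hK : ∀ (p n : ℤ), b < n → IsZero (((FilD.grCx p).obj K).homology n)) :
    ∃ (M : CochainComplex (FilD.FilF A) ℤ) (φ : M ⟶ K), M.IsStrictlyLE b ∧ FilD.IsFilteredQuasiIso φ := by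
  have hex : ∀ (p n : ℤ), b < n → ((FilD.grCx p).obj K).ExactAt n := fun p n h =>
    (HomologicalComplex.exactAt_iff_isZero_homology _ _).2 (hK p n h)
  let w : ∀ n, K.X n ⟶ (K.X n ⊞ K.X (n + 1)) := fun n =>
    biprod.lift (if b < n then 𝟙 _ else 0) (if b ≤ n then K.d n (n + 1) else 0)
  have hw : ∀ n, StrictUp (w n).hom := by
    intro n
    rcases lt_trichotomy b n with h | h | h
    · exact strictUp_of_retraction (w n) biprod.fst (by simp [w, h])
    · rw [show w n = K.d n (n + 1) ≫ biprod.inr from by apply biprod.hom_ext <;> simp [w, h]]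
      refine strictUp_comp_retraction ?_ biprod.inr biprod.snd (by simp)
      exact (strictUp_of_exact_gr _ _ (congrArg InducedCategory.Hom.hom (K.d_comp_d n (n + 1) (n + 1 + 1)))
        fun p => ((HomologicalComplex.exactAt_iff' ((FilD.grCx p).obj K) n (n + 1) (n + 1 + 1)
          ((ComplexShape.up ℤ).prev_eq' rfl) ((ComplexShape.up ℤ).next_eq' rfl)) :).1 (hex p _ (by omega))).1
    · rw [show w n = 0 from by apply biprod.hom_ext <;> simp [w, not_lt.2 h.le, not_le.2 h]]
      exact strictUp_zero fun hh => mono_st _ hh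
  let M₀ : ℤ → FilD.FilF A := fun n => ⟨kernel (w n).hom, isFinFil_kernel (w n)⟩
  let ι : ∀ n, M₀ n ⟶ K.X n := fun n => ObjectProperty.homMk (kernel.ι (w n).hom)
  have hιw : ∀ n, ι n ≫ w n = 0 := fun n => InducedCategory.hom_ext (kernel.condition _)
  have hι₁ : ∀ n, b < n → ι n = 0 := fun n h => by
    simpa [w, h] using congrArg (· ≫ biprod.fst) (hιw n)
  have hι₂ : ∀ n, b ≤ n → ι n ≫ K.d n (n + 1) = 0 := fun n h => by
    simpa [w, h] using congrArg (· ≫ biprod.snd) (hιw n)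
  have hd : ∀ n, (ι n ≫ K.d n (n + 1)) ≫ w (n + 1) = 0 := by
    intro n
    by_cases h : b ≤ n
    · rw [hι₂ n h, zero_comp]
    · apply biprod.hom_ext
      · simp [w, show ¬ b < n + 1 by omega]
      · by_cases h' : b ≤ n + 1 <;> simp [w, h']
  let dM : ∀ n, M₀ n ⟶ M₀ (n + 1) := fun n =>
    ObjectProperty.homMk (kernel.lift (w (n + 1)).hom (ι n ≫ K.d n (n + 1)).hom (congrArg InducedCategory.Hom.hom (hd n)))
  have hdι : ∀ n, dM n ≫ ι (n + 1) = ι n ≫ K.d n (n + 1) := fun n => InducedCategory.hom_ext (kernel.lift_ι _ _ _)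
  have hιmono : ∀ n, Mono (ι n) := fun n =>
    (FilD.IsFinFil A).ι.mono_of_mono_map (show Mono (kernel.ι (w n).hom) from inferInstance)
  let M : CochainComplex (FilD.FilF A) ℤ := CochainComplex.of M₀ dM (fun n => by
    haveI := hιmono (n + 1 + 1)
    rw [← cancel_mono (ι (n + 1 + 1)), zero_comp, Category.assoc, hdι, reassoc_of% hdι, K.d_comp_d, comp_zero])
  let φ : M ⟶ K :=
    { f := ι
      comm' := fun i j h => by
        obtain rfl : i + 1 = j := h
        simp [M, hdι] }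
  have hM : ∀ n, b < n → IsZero (M.X n) := fun n h => (IsZero.iff_id_eq_zero _).2 (by
    haveI := hιmono n
    exact (cancel_mono (ι n)).1 ((Category.id_comp _).trans ((hι₁ n h).trans zero_comp.symm)))
  refine ⟨M, φ, (CochainComplex.isStrictlyLE_iff _ _).2 hM, fun p => ⟨fun n => ?_⟩⟩
  rw [quasiIsoAt_iff_isIso_homologyMap]
  let G := FilD.grF A p
  let Q := (FilD.grCx p).map φ
  haveI hQ : ∀ m, Mono (Q.f m) := fun m => mono_gr_kernelι (w m) p
  have hker : ∀ m, m ≤ b → ∀ {T : A} (y : T ⟶ ((FilD.grCx p).obj K).X m),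
      (b ≤ m → y ≫ ((FilD.grCx p).obj K).d m (m + 1) = 0) →
      ∃ (T' : A) (π : T' ⟶ T) (_ : Epi π) (x : T' ⟶ ((FilD.grCx p).obj M).X m), π ≫ y = x ≫ Q.f m := by
    intro m hm T y hy
    refine (exact_gr_of_strictUp (w m) (hw m) p).exact_up_to_refinements y ?_
    show (y : T ⟶ G.obj (K.X m)) ≫ G.map (w m) = 0
    rw [show w m = (if b ≤ m then K.d m (m + 1) else 0) ≫ biprod.inr from by
      apply biprod.hom_ext <;> simp [w, not_lt.2 hm], G.map_comp]
    by_cases h : b ≤ m
    · rw [if_pos h]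
      exact (Category.assoc _ _ _).symm.trans ((congrArg (· ≫ _) (hy h)).trans zero_comp)
    · rw [if_neg h]
      exact (congrArg (fun f => (y : T ⟶ G.obj (K.X m)) ≫ f)
        (show G.map (0 : K.X m ⟶ K.X (m + 1)) ≫ G.map biprod.inr = (0 : _ ⟶ G.obj (K.X m ⊞ K.X (m + 1))) by simp)).trans comp_zero
  have hpn : (ComplexShape.up ℤ).prev n = n - 1 := (ComplexShape.up ℤ).prev_eq' (show n - 1 + 1 = n by omega)
  have hnn : (ComplexShape.up ℤ).next n = n + 1 := (ComplexShape.up ℤ).next_eq' rfl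
  haveI : Mono (HomologicalComplex.homologyMap Q n) := by
    rw [HomologicalComplex.mono_homologyMap_iff_up_to_refinements Q (n - 1) n (n + 1) hpn hnn]
    intro T x hx y hy
    by_cases h : b < n
    · exact ⟨T, 𝟙 T, inferInstance, 0, (G.map_isZero (hM n h)).eq_of_tgt _ _⟩
    · obtain ⟨T', π, hπ, y', hy'⟩ := hker (n - 1) (by omega) y (fun h' => absurd h' (by omega))
      refine ⟨T', π, hπ, y', ?_⟩
      rw [← cancel_mono (Q.f n), Category.assoc, Category.assoc, hy, ← Q.comm, reassoc_of% hy']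
  haveI : Epi (HomologicalComplex.homologyMap Q n) := by
    rw [HomologicalComplex.epi_homologyMap_iff_up_to_refinements Q (n - 1) n (n + 1) hpn hnn]
    intro T y hy
    by_cases h : b < n
    · obtain ⟨T', π, hπ, y₁, hy₁⟩ := (((HomologicalComplex.exactAt_iff' ((FilD.grCx p).obj K) (n - 1) n (n + 1) hpn hnn) :).1
        (hex p n h)).exact_up_to_refinements y hy
      exact ⟨T', π, hπ, 0, zero_comp, y₁, by rw [zero_comp, zero_add]; exact hy₁⟩
    · obtain ⟨T', π, hπ, x, hx⟩ := hker n (by omega) y (fun _ => hy)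
      refine ⟨T', π, hπ, x, ?_, 0, by simp [hx]⟩
      rw [← cancel_mono (Q.f (n + 1)), zero_comp, Category.assoc, ← Q.comm, ← reassoc_of% hx, hy, comp_zero]
  exact isIso_of_mono_of_epi _

end Groth.Agent.H16Derived.FilLib
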